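import Mathlib
import Groth.Agent.UnivHomeo.Basic

/-!
Residue fields of points given by maps to fields; affine charts of fibre products.
-/

set_option autoImplicit false

universe u

open AlgebraicGeometry CategoryTheory Limits TensorProduct

namespace Groth.Agent.MatchLib

/-- In a field generated by the image of a ring every element is a fraction. -/
theorem exists_frac {X K : Type u} [CommRing X] [Field K] (k : X →+* K)
    (hk : Subfield.closure (Set.range k) = ⊤) (z : K) : ∃ r s, k s ≠ 0 ∧ k s * z = k r := by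
  obtain ⟨a, ha, b, hb, hz⟩ := Subfield.mem_closure_iff.1 (hk.symm ▸ trivial : z ∈ Subfield.closure (Set.range k))
  rw [← RingHom.coe_range, Subring.closure_eq] at ha hb
  obtain ⟨r, rfl⟩ := ha
  obtain ⟨s, rfl⟩ := hb
  by_cases hs : k s = 0
  · rw [hs, div_zero] at hz
    exact ⟨0, 1, by rw [map_one]; exact one_ne_zero, by rw [← hz, mul_zero, map_zero]⟩
  · exact ⟨r, s, hs, by rw [← hz, mul_div_cancel₀ _ hs]⟩

/-- The kernel of a map to a field has the residue field of any subring generating that field. -/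
theorem residue_condition {X W K : Type u} [CommRing X] [CommRing W] [Field K] (h : X →+* W) (χ : W →+* K)
    (hgen : Subfield.closure (Set.range (χ.comp h)) = ⊤) (z : W) :
    ∃ r s, h s ∉ RingHom.ker χ ∧ h s * z - h r ∈ RingHom.ker χ := by
  obtain ⟨r, s, hs, hrs⟩ := exists_frac (χ.comp h) hgen (χ z)
  exact ⟨r, s, hs, by rw [RingHom.mem_ker, map_sub, map_mul]; exact sub_eq_zero.2 hrs⟩

/-- A map from the base to a field extends along an étale-type neighbourhood without residue extension. -/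
theorem exists_extend_residue {R R' K : Type u} [CommRing R] [CommRing R'] [Field K] [Algebra R R'] (k : R →+* K)
    (p' : Ideal R') [p'.IsPrime] (hp : p'.comap (algebraMap R R') = RingHom.ker k)
    (hres : ∀ x : R', ∃ r s : R, k s ≠ 0 ∧ algebraMap R R' s * x - algebraMap R R' r ∈ p') :
    ∃ χ : R' →+* K, χ.comp (algebraMap R R') = k ∧ RingHom.ker χ = p' := by
  let p : Ideal R := p'.comap (algebraMap R R')
  let ψ : p.ResidueField →+* p'.ResidueField := Ideal.ResidueField.map p p' (algebraMap R R') rfl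
  have hψ : ∀ r, ψ (algebraMap R p.ResidueField r) = algebraMap R' p'.ResidueField (algebraMap R R' r) := fun r =>
    Ideal.ResidueField.map_algebraMap p p' _ _ r
  have hsurj : Function.Surjective ψ := by
    have key : ∀ x : R', ∃ w, ψ w = algebraMap R' p'.ResidueField x := fun x => by
      obtain ⟨r, s, hs, hrs⟩ := hres x
      have hs' : algebraMap R' p'.ResidueField (algebraMap R R' s) ≠ 0 := fun h0 =>
        hs (RingHom.mem_ker.1 (hp.le (Ideal.mem_comap.2 (Ideal.algebraMap_residueField_eq_zero.1 h0))))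
      refine ⟨algebraMap R p.ResidueField r / algebraMap R p.ResidueField s, ?_⟩
      rw [map_div₀, hψ, hψ, div_eq_iff hs']
      have := Ideal.algebraMap_residueField_eq_zero.2 hrs
      rw [map_sub, map_mul, sub_eq_zero] at this
      rw [← this]; ring
    intro z
    obtain ⟨a, b, -, rfl⟩ := IsFractionRing.div_surjective (A := R' ⧸ p') z
    obtain ⟨a, rfl⟩ := Ideal.Quotient.mk_surjective a
    obtain ⟨b, rfl⟩ := Ideal.Quotient.mk_surjective b
    obtain ⟨u, hu⟩ := key a
    obtain ⟨v, hv⟩ := key b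
    refine ⟨u / v, ?_⟩
    rw [map_div₀, hu, hv]
    rfl
  let e := RingEquiv.ofBijective ψ ⟨ψ.injective, hsurj⟩
  let l : p.ResidueField →+* K := Ideal.ResidueField.lift p k hp.le (fun x hx => by
    rw [Submonoid.mem_comap, IsUnit.mem_submonoid_iff]
    exact isUnit_iff_ne_zero.2 fun h0 => hx (hp.ge h0))
  refine ⟨(l.comp e.symm.toRingHom).comp (algebraMap R' p'.ResidueField), RingHom.ext fun r => ?_, ?_⟩
  · show l (e.symm (algebraMap R' p'.ResidueField (algebraMap R R' r))) = k r
    rw [← hψ, show ψ (algebraMap R p.ResidueField r) = e (algebraMap R p.ResidueField r) from rfl, e.symm_apply_apply]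
    exact Ideal.ResidueField.lift_algebraMap p k _ _ r
  · ext x
    show l (e.symm (algebraMap R' p'.ResidueField x)) = 0 ↔ _
    rw [map_eq_zero, map_eq_zero_iff _ e.symm.injective, Ideal.algebraMap_residueField_eq_zero]

/-- Residue fields of a map of spectra are equal when fractions of the source suffice. -/
theorem bijective_residueFieldMap_Spec {X W : Type u} [CommRing X] [CommRing W] (h : X →+* W)
    (w : Spec (CommRingCat.of W))
    (hw : ∀ z : W, ∃ r s, h s ∉ w.asIdeal ∧ h s * z - h r ∈ w.asIdeal) :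
    Function.Bijective ((Spec.map (CommRingCat.ofHom h)).residueFieldMap w) := by
  refine ⟨RingHom.injective _, fun z => ?_⟩
  have key : ∀ b : W, ∃ z, (Spec.map (CommRingCat.ofHom h)).residueFieldMap w z = UnivHomeo.ev w b := by
    intro b
    obtain ⟨r, s, hs, hrs⟩ := hw b
    have hs0 : UnivHomeo.ev w (h s) ≠ 0 := fun h0 => hs ((UnivHomeo.ev_eq_zero _ _).1 h0)
    refine ⟨UnivHomeo.ev _ r / UnivHomeo.ev _ s, ?_⟩
    rw [map_div₀, UnivHomeo.residueFieldMap_ev h w r, UnivHomeo.residueFieldMap_ev h w s, div_eq_iff hs0,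
      ← map_mul, eq_comm, ← sub_eq_zero, ← map_sub, UnivHomeo.ev_eq_zero, mul_comm]
    exact hrs
  obtain ⟨b, s, -, rfl⟩ := UnivHomeo.exists_div_ev w z
  obtain ⟨zb, hb⟩ := key b
  obtain ⟨zs, hs⟩ := key s
  exact ⟨zb / zs, by rw [map_div₀, hb, hs]⟩

/-- Composing with an open immersion keeps bijectivity on residue fields. -/
theorem bijective_residueFieldMap_comp {X Y Z : Scheme.{u}} (f : X ⟶ Y) (j : Y ⟶ Z) [IsOpenImmersion j] (x : X)
    (hf : Function.Bijective (f.residueFieldMap x)) : Function.Bijective ((f ≫ j).residueFieldMap x) := by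
  rw [Scheme.residueFieldMap_comp]
  exact hf.comp (ConcreteCategory.bijective_of_isIso (j.residueFieldMap (f x)))

/-- An affine chart of a fibre product with an affine scheme. -/
theorem exists_chart {Y T : Scheme.{u}} (q : Y ⟶ T) {U : T.Opens} (hU : IsAffineOpen U) {V : Y.Opens}
    (hV : IsAffineOpen V) (hVU : V ≤ q ⁻¹ᵁ U) {X : Type u} [CommRing X] [Algebra Γ(T, U) X] :
    letI : Algebra Γ(T, U) Γ(Y, V) := (q.appLE U V hVU).hom.toAlgebra
    ∃ j : Spec (CommRingCat.of (X ⊗[Γ(T, U)] Γ(Y, V))) ⟶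
        pullback q (Spec.map (CommRingCat.ofHom (algebraMap Γ(T, U) X)) ≫ hU.fromSpec),
      IsOpenImmersion j ∧
      j ≫ pullback.fst _ _ = Spec.map (CommRingCat.ofHom
        (Algebra.TensorProduct.includeRight : Γ(Y, V) →ₐ[Γ(T, U)] X ⊗[Γ(T, U)] Γ(Y, V)).toRingHom) ≫ hV.fromSpec ∧
      j ≫ pullback.snd _ _ = Spec.map (CommRingCat.ofHom (algebraMap X (X ⊗[Γ(T, U)] Γ(Y, V)))) ∧
      ∀ z, (pullback.fst q (Spec.map (CommRingCat.ofHom (algebraMap Γ(T, U) X)) ≫ hU.fromSpec)) z ∈ V →
        ∃ u, j u = z := by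
  letI : Algebra Γ(T, U) Γ(Y, V) := (q.appLE U V hVU).hom.toAlgebra
  let g : Spec (CommRingCat.of X) ⟶ T := Spec.map (CommRingCat.ofHom (algebraMap Γ(T, U) X)) ≫ hU.fromSpec
  have e₁ : Spec.map (CommRingCat.ofHom (algebraMap Γ(T, U) Γ(Y, V))) ≫ hU.fromSpec = hV.fromSpec ≫ q :=
    IsAffineOpen.SpecMap_appLE_fromSpec q hU hV hVU
  have e₂ : Spec.map (CommRingCat.ofHom (algebraMap Γ(T, U) X)) ≫ hU.fromSpec = 𝟙 _ ≫ g := (Category.id_comp _).symm
  haveI : IsOpenImmersion hV.fromSpec := hV.isOpenImmersion_fromSpec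
  haveI : IsOpenImmersion hU.fromSpec := hU.isOpenImmersion_fromSpec
  let i := (pullbackSpecIso Γ(T, U) X Γ(Y, V)).symm ≪≫ pullbackSymmetry _ _
  refine ⟨i.hom ≫ pullback.map _ _ q g hV.fromSpec (𝟙 _) hU.fromSpec e₁ e₂, inferInstance, ?_, ?_, fun z hz => ?_⟩
  · simp only [i, Iso.trans_hom, Iso.symm_hom, Category.assoc, pullback.map, pullback.lift_fst, g]
    rw [pullbackSymmetry_hom_comp_fst_assoc, pullbackSpecIso_inv_snd_assoc]
    rfl
  · simp only [i, Iso.trans_hom, Iso.symm_hom, Category.assoc, pullback.map, pullback.lift_snd, g]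
    rw [pullbackSymmetry_hom_comp_snd_assoc, pullbackSpecIso_inv_fst_assoc, Category.comp_id]
    
  · have hzr : z ∈ Set.range (pullback.map _ _ q g hV.fromSpec (𝟙 _) hU.fromSpec e₁ e₂) := by
      rw [Scheme.Pullback.range_map]
      refine ⟨?_, ⟨_, rfl⟩⟩
      show _ ∈ Set.range hV.fromSpec
      rw [hV.range_fromSpec]
      exact hz
    obtain ⟨t, rfl⟩ := hzr
    exact ⟨i.inv t, by rw [← Scheme.Hom.comp_apply, Iso.inv_hom_id_assoc]⟩

end Groth.Agent.MatchLib
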