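import Groth.Agent.ArtinApproxLib.CommonNbhd
import Groth.Agent.ArtinApproxLib.Nbhd

/-!
A common étale neighbourhood of two algebras with isomorphic completed local rings, for rings.
-/

set_option autoImplicit false

universe u

open IsLocalRing

namespace Groth.Agent.MatchLib

/-- Two finite type algebras with isomorphic completions over a G-ring have a common étale neighbourhood. -/
theorem exists_common_nbhd {Λ C B : Type u} [CommRing Λ] [IsNoetherianRing Λ] [CommRing C] [CommRing B]
    [Algebra Λ C] [Algebra Λ B] [Algebra.FiniteType Λ C] [Algebra.FiniteType Λ B]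
    (P : Ideal C) [P.IsPrime] (Q : Ideal B) [Q.IsPrime]
    {A A' : Type u} [CommRing A] [IsLocalRing A] [Algebra C A] [IsLocalization.AtPrime A P]
    [CommRing A'] [IsLocalRing A'] [Algebra B A'] [IsLocalization.AtPrime A' Q]
    (hG : CAlg.IsGRing A) (φ : AdicCompletion (maximalIdeal A') A' ≃+* AdicCompletion (maximalIdeal A) A)
    (hφ : ∀ r, φ (algebraMap A' _ (algebraMap B A' (algebraMap Λ B r))) =
      algebraMap A _ (algebraMap C A (algebraMap Λ C r))) :
    ∃ (F : Type u) (_ : CommRing F) (_ : Algebra C F) (g : B →+* F), Algebra.Etale C F ∧ g.Etale ∧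
      (∀ r, g (algebraMap Λ B r) = algebraMap C F (algebraMap Λ C r)) ∧
      ∃ (p' : Ideal F) (_ : p'.IsPrime), p'.comap (algebraMap C F) = P ∧ p'.comap g = Q ∧
        (∀ x : F, ∃ r s : C, s ∉ P ∧ algebraMap C F s * x - algebraMap C F r ∈ p') ∧
        (∀ x : F, ∃ r s : B, s ∉ Q ∧ g s * x - g r ∈ p') := by
  classical
  haveI : IsNoetherianRing C := Algebra.FiniteType.isNoetherianRing Λ C
  haveI : IsNoetherianRing B := Algebra.FiniteType.isNoetherianRing Λ B
  haveI : Algebra.FinitePresentation Λ B := Algebra.FinitePresentation.of_finiteType.1 inferInstance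
  haveI := hG.1
  haveI : IsNoetherianRing A' := IsLocalization.isNoetherianRing Q.primeCompl A' inferInstance
  haveI := RegLocal.isLocalRing_completion A _ (maximalIdeal.isMaximal A).ne_top
  haveI := RegLocal.isLocalRing_completion A' _ (maximalIdeal.isMaximal A').ne_top
  let f₀ : B →+* AdicCompletion (maximalIdeal A) A := φ.toRingHom.comp ((algebraMap A' _).comp (algebraMap B A'))
  obtain ⟨C', _, _, hC', p', hp', g, hcomap, hres, hgR, hgp, hcong⟩ :=
    ArtinApproxLib.exists_nbhd_approx (R₀ := Λ) P hG f₀ hφ 2 (by norm_num)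
  haveI := hC'
  haveI := hp'
  -- the primes correspond
  have hgQ : p'.comap g = Q := by
    ext b
    rw [Ideal.mem_comap, hgp, ← AdicCompletion.maximalIdeal_eq_map, mem_maximalIdeal, mem_nonunits_iff,
      ← IsLocalization.AtPrime.to_map_mem_maximal_iff A' Q, mem_maximalIdeal, mem_nonunits_iff]
    show ¬ IsUnit (φ (algebraMap A' _ (algebraMap B A' b))) ↔ _
    haveI : IsLocalHom (algebraMap A' (AdicCompletion (maximalIdeal A') A')) := by
      refine ((local_hom_TFAE _).out 0 2 rfl rfl).mpr ?_
      rw [AdicCompletion.maximalIdeal_eq_map]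
    rw [MulEquiv.isUnit_map φ, isUnit_map_iff (algebraMap A' (AdicCompletion (maximalIdeal A') A'))]
  let L := Localization.AtPrime p'
  -- the two local maps
  have heu : ∀ c : P.primeCompl, IsUnit (algebraMap C (Localization.AtPrime p') c) := fun c =>
    IsLocalization.map_units (Localization.AtPrime p')
      (⟨algebraMap C C' c, fun h => c.2 (hcomap.le (Ideal.mem_comap.2 h))⟩ : p'.primeCompl)
  let e : A →+* Localization.AtPrime p' := IsLocalization.lift heu
  have hec : ∀ c, e (algebraMap C A c) = algebraMap C' _ (algebraMap C C' c) := fun c => IsLocalization.lift_eq heu c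
  have hfu : ∀ b : Q.primeCompl, IsUnit ((algebraMap C' (Localization.AtPrime p')).comp g b) := fun b =>
    IsLocalization.map_units (Localization.AtPrime p')
      (⟨g b, fun h => b.2 (hgQ.le (Ideal.mem_comap.2 h))⟩ : p'.primeCompl)
  let f : A' →+* Localization.AtPrime p' := IsLocalization.lift hfu
  have hfb : ∀ b, f (algebraMap B A' b) = algebraMap C' _ (g b) := fun b => IsLocalization.lift_eq hfu b
  haveI : IsLocalHom f := by
    refine ((local_hom_TFAE f).out 0 2 rfl rfl).mpr ?_
    rw [← IsLocalization.AtPrime.map_eq_maximalIdeal Q A', Ideal.map_map, IsLocalization.lift_comp,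
      ← Ideal.map_map, ← hgQ, ← IsLocalization.AtPrime.map_eq_maximalIdeal p' (Localization.AtPrime p')]
    exact Ideal.map_mono Ideal.map_comap_le
  haveI : IsNoetherianRing C' := Algebra.FiniteType.isNoetherianRing C C'
  haveI : IsNoetherianRing (Localization.AtPrime p') := IsLocalization.isNoetherianRing p'.primeCompl _ inferInstance
  letI algE : Algebra A (Localization.AtPrime p') := e.toAlgebra
  haveI : IsScalarTower C A (Localization.AtPrime p') := IsScalarTower.of_algebraMap_eq fun c => ((hec c).trans (IsScalarTower.algebraMap_apply C C' (Localization.AtPrime p') c).symm).symm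
  haveI : IsLocalHom (algebraMap A (Localization.AtPrime p')) := by
    refine ((local_hom_TFAE (algebraMap A (Localization.AtPrime p'))).out 0 2 rfl rfl).mpr ?_
    rw [← IsLocalization.AtPrime.map_eq_maximalIdeal P A, Ideal.map_map, ← IsScalarTower.algebraMap_eq,
      IsScalarTower.algebraMap_eq C C' (Localization.AtPrime p'), ← Ideal.map_map, ← hcomap,
      ← IsLocalization.AtPrime.map_eq_maximalIdeal p' (Localization.AtPrime p')]
    exact Ideal.map_mono Ideal.map_comap_le
  haveI : Algebra.FormallyUnramified C (Localization.AtPrime p') :=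
    haveI : Algebra.FormallyUnramified C' (Localization.AtPrime p') := Algebra.FormallyUnramified.of_isLocalization p'.primeCompl
    Algebra.FormallyUnramified.comp C C' (Localization.AtPrime p')
  haveI : Algebra.FormallyUnramified A (Localization.AtPrime p') := Algebra.FormallyUnramified.of_restrictScalars C A _
  haveI : Algebra.EssFiniteType C (Localization.AtPrime p') :=
    haveI : Algebra.EssFiniteType C' (Localization.AtPrime p') :=
      Algebra.EssFiniteType.of_isLocalization (Localization.AtPrime p') p'.primeCompl
    Algebra.EssFiniteType.comp C C' (Localization.AtPrime p')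
  haveI : Algebra.EssFiniteType A (Localization.AtPrime p') := Algebra.EssFiniteType.of_comp C A _
  have hem : (maximalIdeal A).map e = maximalIdeal (Localization.AtPrime p') :=
    Algebra.FormallyUnramified.map_maximalIdeal (R := A) (S := Localization.AtPrime p')
  have hef : e.Flat := by
    haveI : Module.Flat C' (Localization.AtPrime p') := IsLocalization.flat _ p'.primeCompl
    haveI : Module.Flat C (Localization.AtPrime p') := Module.Flat.trans C C' _
    exact (Module.flat_iff_of_isLocalization A P.primeCompl (Localization.AtPrime p')).2 inferInstance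
  have hM : ∀ z : C', z ∈ p' ↔ algebraMap C' (Localization.AtPrime p') z ∈ maximalIdeal (Localization.AtPrime p') :=
    fun z => (IsLocalization.AtPrime.to_map_mem_maximal_iff (Localization.AtPrime p') p' z).symm
  have heres : ∀ z : Localization.AtPrime p', ∃ c, z - e c ∈ maximalIdeal (Localization.AtPrime p') := by
    intro z
    obtain ⟨u, v, rfl⟩ := IsLocalization.exists_mk'_eq p'.primeCompl z
    obtain ⟨r, t, ht, hu⟩ := hres u
    obtain ⟨r', t', ht', hv⟩ := hres v
    have hr' : r' ∉ P := fun h => by
      have h1 : algebraMap C C' t' * v ∈ p' := by simpa using add_mem hv (Ideal.mem_comap.1 (hcomap.ge h))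
      exact (hp'.mem_or_mem h1).elim (fun h2 => ht' (hcomap.le (Ideal.mem_comap.2 h2))) v.2
    refine ⟨IsLocalization.mk' A (r * t') (⟨t * r', P.primeCompl.mul_mem ht hr'⟩ : P.primeCompl), ?_⟩
    have hd := (IsLocalization.mk'_spec A (r * t') (⟨t * r', P.primeCompl.mul_mem ht hr'⟩ : P.primeCompl))
    have hd' := congrArg e hd
    rw [map_mul, hec, hec] at hd'
    have hunit : IsUnit (algebraMap C' (Localization.AtPrime p') (v * algebraMap C C' (t * r'))) := by
      refine IsLocalization.map_units _ (⟨_, p'.primeCompl.mul_mem v.2 fun h => ?_⟩ : p'.primeCompl)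
      exact P.primeCompl.mul_mem ht hr' (hcomap.le (Ideal.mem_comap.2 h))
    rw [← Ideal.mul_unit_mem_iff_mem _ hunit]
    have h2 := IsLocalization.mk'_spec (Localization.AtPrime p') u v
    have h4 := (hM _).1 (sub_mem (Ideal.mul_mem_left _ (algebraMap C C' r') hu)
      (Ideal.mul_mem_left _ (algebraMap C C' r) hv))
    convert h4 using 1
    rw [sub_mul, map_mul (algebraMap C' (Localization.AtPrime p')) (v : C'), ← mul_assoc, h2]
    simp only [map_mul, map_sub] at hd' ⊢
    linear_combination -(algebraMap C' (Localization.AtPrime p') (v : C')) * hd'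
  -- congruence to second order
  have hcong' : ∀ a c, AdicCompletion.evalₐ (maximalIdeal A) 2 (φ (algebraMap A' _ a)) =
      Ideal.Quotient.mk (maximalIdeal A ^ 2) c → f a - e c ∈ maximalIdeal (Localization.AtPrime p') ^ 2 := by
    intro b c hbc
    obtain ⟨⟨bn, bs⟩, hb⟩ := IsLocalization.surj Q.primeCompl b
    obtain ⟨⟨cn, cd⟩, hc⟩ := IsLocalization.surj P.primeCompl c
    have hb' : b * algebraMap B A' bs = algebraMap B A' bn := hb
    have hc' : c * algebraMap C A cd = algebraMap C A cn := hc
    have hJ := ArtinApproxLib.mem_of_evalₐ_eq (maximalIdeal A).fg_of_isNoetherianRing 2 _ _ hbc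
    have hkey := hcong (Localization.AtPrime p') bn bs cn cd (by
      have h1 := Ideal.mul_mem_right (f₀ (bs : B) * algebraMap A _ (algebraMap C A cd)) _ hJ
      convert h1 using 1
      show φ (algebraMap A' _ (algebraMap B A' bn)) * algebraMap A _ (algebraMap C A cd) -
        φ (algebraMap A' _ (algebraMap B A' bs)) * algebraMap A _ (algebraMap C A cn) =
          _ * (φ (algebraMap A' _ (algebraMap B A' bs)) * _)
      rw [← hb', ← hc', map_mul, map_mul, map_mul]
      ring)
    rw [map_sub, map_mul, map_mul, ← hfb, ← hfb, ← hec, ← hec, ← hb', ← hc', map_mul, map_mul] at hkey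
    have hu : IsUnit (f (algebraMap B A' bs) * e (algebraMap C A cd)) :=
      ((IsLocalization.map_units A' bs).map f).mul ((IsLocalization.map_units A cd).map e)
    refine (Ideal.mul_unit_mem_iff_mem _ hu).1 ?_
    convert hkey using 1
    ring
  obtain ⟨hflat, hfm, hfres⟩ :=
    ArtinApproxLib.flat_of_approx_iso e f hef hem heres φ 2 le_rfl hcong'
  -- formally étale at the point
  letI : Algebra B C' := g.toAlgebra
  letI : Algebra Λ C' := ((algebraMap C C').comp (algebraMap Λ C)).toAlgebra
  haveI : IsScalarTower Λ C C' := IsScalarTower.of_algebraMap_eq fun _ => rfl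
  haveI : IsScalarTower Λ B C' := IsScalarTower.of_algebraMap_eq fun r => (hgR r).symm
  haveI : Algebra.FiniteType Λ C' := Algebra.FiniteType.trans (R := Λ) (S := C) (A := C') inferInstance inferInstance
  haveI : Algebra.FinitePresentation Λ C' := Algebra.FinitePresentation.of_finiteType.1 inferInstance
  haveI : Algebra.FinitePresentation B C' := Algebra.FinitePresentation.of_restrict_scalars_finitePresentation Λ B C'
  letI algF : Algebra A' (Localization.AtPrime p') := f.toAlgebra
  haveI : IsScalarTower B A' (Localization.AtPrime p') := IsScalarTower.of_algebraMap_eq fun b => ((hfb b).trans (IsScalarTower.algebraMap_apply B C' (Localization.AtPrime p') b).symm).symm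
  haveI : IsLocalHom (algebraMap A' (Localization.AtPrime p')) := ‹IsLocalHom f›
  haveI : Module.Flat A' (Localization.AtPrime p') := hflat
  haveI : Algebra.EssFiniteType B (Localization.AtPrime p') :=
    haveI : Algebra.EssFiniteType C' (Localization.AtPrime p') :=
      Algebra.EssFiniteType.of_isLocalization (Localization.AtPrime p') p'.primeCompl
    Algebra.EssFiniteType.comp B C' (Localization.AtPrime p')
  haveI : Algebra.EssFiniteType A' (Localization.AtPrime p') := Algebra.EssFiniteType.of_comp B A' _
  have hsurjκ : Function.Surjective (algebraMap (ResidueField A') (ResidueField (Localization.AtPrime p'))) := by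
    intro w
    obtain ⟨z, rfl⟩ := residue_surjective w
    obtain ⟨a, ha⟩ := hfres z
    exact ⟨residue A' a, (Ideal.Quotient.eq.2 ha).symm⟩
  haveI : Algebra.IsSeparable (ResidueField A') (ResidueField (Localization.AtPrime p')) :=
    ⟨fun w => by obtain ⟨v, rfl⟩ := hsurjκ w; exact isSeparable_algebraMap v⟩
  haveI : Algebra.FormallyUnramified A' (Localization.AtPrime p') :=
    Algebra.FormallyUnramified.iff_map_maximalIdeal_eq.2 ⟨inferInstance, hfm⟩
  haveI := EtLocalLib.formallyEtale_of_flat A' (Localization.AtPrime p')
  haveI : Algebra.FormallyEtale B A' := Algebra.FormallyEtale.of_isLocalization Q.primeCompl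
  haveI : Algebra.IsEtaleAt B p' := Algebra.FormallyEtale.comp B A' (Localization.AtPrime p')
  obtain ⟨h, hh, hF⟩ := Algebra.exists_etale_of_isEtaleAt (R := B) p'
  -- the neighbourhood
  haveI := hF
  let k : Localization.Away h →+* Localization.AtPrime p' :=
    IsLocalization.Away.lift h (g := algebraMap C' (Localization.AtPrime p'))
      (IsLocalization.map_units _ (⟨h, hh⟩ : p'.primeCompl))
  have hk : ∀ z, k (algebraMap C' _ z) = algebraMap C' (Localization.AtPrime p') z := fun z =>
    IsLocalization.Away.lift_eq h _ z
  let pF : Ideal (Localization.Away h) := (maximalIdeal (Localization.AtPrime p')).comap k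
  haveI : Algebra.Etale C' (Localization.Away h) := Algebra.Etale.of_isLocalizationAway h
  haveI : Algebra.Etale C (Localization.Away h) := Algebra.Etale.comp C C' (Localization.Away h)
  refine ⟨Localization.Away h, inferInstance, inferInstance, (algebraMap C' _).comp g, inferInstance,
    RingHom.etale_algebraMap.2 hF, fun r => ?_, pF, Ideal.IsPrime.comap k, ?_, ?_, fun x => ?_, fun x => ?_⟩
  · rw [RingHom.comp_apply, hgR, ← IsScalarTower.algebraMap_apply]
  · ext c
    rw [← hcomap, Ideal.mem_comap, Ideal.mem_comap, Ideal.mem_comap, hM,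
      IsScalarTower.algebraMap_apply C C' (Localization.Away h), hk]
  · ext b
    rw [← hgQ, Ideal.mem_comap, Ideal.mem_comap, Ideal.mem_comap, hM, RingHom.comp_apply, hk]
  · obtain ⟨a, ha⟩ := heres (k x)
    obtain ⟨⟨r, s⟩, hrs⟩ := IsLocalization.surj P.primeCompl a
    refine ⟨r, s, s.2, ?_⟩
    show k _ ∈ maximalIdeal _
    have h1 := Ideal.mul_mem_left _ (e (algebraMap C A s)) ha
    convert h1 using 1
    rw [map_sub, map_mul, IsScalarTower.algebraMap_apply C C' (Localization.Away h),
      IsScalarTower.algebraMap_apply C C' (Localization.Away h), hk, hk, ← hec, ← hec, ← hrs, map_mul]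
    ring
  · obtain ⟨a, ha⟩ := hfres (k x)
    obtain ⟨⟨r, s⟩, hrs⟩ := IsLocalization.surj Q.primeCompl a
    refine ⟨r, s, s.2, ?_⟩
    show k _ ∈ maximalIdeal _
    have h1 := Ideal.mul_mem_left _ (f (algebraMap B A' s)) ha
    convert h1 using 1
    rw [map_sub, map_mul, RingHom.comp_apply, RingHom.comp_apply, hk, hk, ← hfb, ← hfb, ← hrs, map_mul]
    ring

end Groth.Agent.MatchLib
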