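import Groth.Agent.MatchLib.Systems

/-!
A pair of étale maps to an algebra over `Λ` descends to a finitely generated subring.
-/

set_option autoImplicit false
set_option maxHeartbeats 1000000

universe u

open TensorProduct

namespace Groth.Agent.MatchLib

open Groth.Agent.AlgSysLib

/-- The two maps descend, given a model of the algebra. -/
theorem exists_model_maps_aux (R A0 Λ : Type u) [CommRing R] [CommRing A0] [CommRing Λ] [Algebra R Λ] [Algebra A0 Λ]
    (C0 B0 F : Type u) [CommRing C0] [CommRing B0] [CommRing F] [Algebra R C0] [Algebra A0 B0]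
    [Algebra.FinitePresentation R C0] [Algebra.FinitePresentation A0 B0] [Algebra Λ F]
    [Algebra R F] [IsScalarTower R Λ F] [Algebra A0 F] [IsScalarTower A0 Λ F]
    (c : C0 →ₐ[R] F) (b : B0 →ₐ[A0] F) (D : Subalgebra R Λ) [Algebra.FiniteType R D] [Algebra A0 D]
    [IsScalarTower A0 D Λ] (M1 : Type u) [CommRing M1] [Algebra D M1] [Algebra.FinitePresentation D M1]
    (θ1 : Λ ⊗[D] M1 ≃ₐ[Λ] F) :
    ∃ (D : Subalgebra R Λ) (_ : D.FG) (_ : Algebra A0 D) (_ : IsScalarTower A0 D Λ) (M : Type u) (_ : CommRing M)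
      (_ : Algebra D M) (_ : Algebra.FinitePresentation D M) (_ : Algebra R M) (_ : IsScalarTower R D M)
      (_ : Algebra A0 M) (_ : IsScalarTower A0 D M) (γ : C0 →ₐ[R] M) (β : B0 →ₐ[A0] M) (θ : Λ ⊗[D] M ≃ₐ[Λ] F),
      (∀ x, θ (1 ⊗ₜ γ x) = c x) ∧ (∀ x, θ (1 ⊗ₜ β x) = b x) := by
  have hS := baseChangeRight (isAlgSys_fg D Λ) M1
  letI algR : Algebra R (Λ ⊗[D] M1) := Algebra.TensorProduct.leftAlgebra
  letI algA' : Algebra A0 (Λ ⊗[D] M1) := Algebra.TensorProduct.leftAlgebra
  haveI : IsScalarTower R Λ (Λ ⊗[D] M1) := TensorProduct.isScalarTower_left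
  haveI : IsScalarTower A0 Λ (Λ ⊗[D] M1) := TensorProduct.isScalarTower_left
  haveI : IsScalarTower R D (Λ ⊗[D] M1) := IsScalarTower.to₁₂₄ R D Λ (Λ ⊗[D] M1)
  haveI : IsScalarTower A0 D (Λ ⊗[D] M1) := IsScalarTower.to₁₂₄ A0 D Λ (Λ ⊗[D] M1)
  obtain ⟨i, ci, hci⟩ := exists_lift_hom (restrictScalars hS R) ((θ1.symm.restrictScalars R).toAlgHom.comp c)
  obtain ⟨j, bj, hbj⟩ := exists_lift_hom (restrictScalars hS A0) ((θ1.symm.restrictScalars A0).toAlgHom.comp b)
  obtain ⟨k, φ, ψ, hφ, hψ⟩ := (isAlgSys_fg D Λ).dir i j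
  let D' : Subalgebra R Λ := (k.1).restrictScalars R
  have hD' : D'.FG := by
    haveI : Algebra.FiniteType D k.1 := (Subalgebra.fg_iff_finiteType k.1).1 k.2
    have h : Algebra.FiniteType R k.1 := Algebra.FiniteType.trans (S := D) inferInstance inferInstance
    exact (Subalgebra.fg_iff_finiteType D').2 h
  letI : Algebra A0 D' := (algebraMap D k.1).comp (algebraMap A0 D) |>.toAlgebra
  haveI : IsScalarTower A0 D' Λ :=
    IsScalarTower.of_algebraMap_eq fun a => IsScalarTower.algebraMap_apply A0 D Λ a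
  letI : Algebra D D' := (k.1).algebra
  haveI : IsScalarTower D D' Λ := IsScalarTower.of_algebraMap_eq fun _ => rfl
  haveI : IsScalarTower R D D' := IsScalarTower.of_algebraMap_eq fun _ => rfl
  haveI : IsScalarTower A0 D D' := IsScalarTower.of_algebraMap_eq fun _ => rfl
  let φ' : (i.1 : Type u) →ₐ[D] D' := φ
  let ψ' : (j.1 : Type u) →ₐ[D] D' := ψ
  letI : Algebra R (D' ⊗[D] M1) := Algebra.TensorProduct.leftAlgebra
  letI : Algebra A0 (D' ⊗[D] M1) := Algebra.TensorProduct.leftAlgebra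
  haveI : IsScalarTower R D' (D' ⊗[D] M1) := TensorProduct.isScalarTower_left
  haveI : IsScalarTower A0 D' (D' ⊗[D] M1) := TensorProduct.isScalarTower_left
  let γ : C0 →ₐ[R] D' ⊗[D] M1 :=
    ((Algebra.TensorProduct.map φ' (AlgHom.id D M1)).restrictScalars R).comp ci
  let β : B0 →ₐ[A0] D' ⊗[D] M1 :=
    ((Algebra.TensorProduct.map ψ' (AlgHom.id D M1)).restrictScalars A0).comp bj
  let θ : Λ ⊗[D'] (D' ⊗[D] M1) ≃ₐ[Λ] F :=
    (Algebra.TensorProduct.cancelBaseChange D D' Λ Λ M1).trans θ1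
  have key : ∀ z : D' ⊗[D] M1, θ (1 ⊗ₜ z) =
      θ1 (Algebra.TensorProduct.map (IsScalarTower.toAlgHom D D' Λ) (AlgHom.id D M1) z) := by
    intro z
    induction z using TensorProduct.induction_on with
    | zero => rw [tmul_zero, map_zero, map_zero, map_zero]
    | tmul a m => simp [θ, Algebra.TensorProduct.cancelBaseChange_tmul, Algebra.smul_def]
    | add u v hu hv => rw [tmul_add, map_add, map_add, map_add, hu, hv]
  refine ⟨D', hD', inferInstance, inferInstance, D' ⊗[D] M1, inferInstance, inferInstance, inferInstance,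
    inferInstance, inferInstance, inferInstance, inferInstance, γ, β, θ, fun x => ?_, fun x => ?_⟩
  · rw [key, ← θ1.apply_symm_apply (c x)]
    congr 1
    refine Eq.trans ?_ (DFunLike.congr_fun hci x)
    show Algebra.TensorProduct.map (IsScalarTower.toAlgHom D D' Λ) (AlgHom.id D M1)
      (Algebra.TensorProduct.map φ' (AlgHom.id D M1) (ci x)) = Algebra.TensorProduct.map i.1.val (AlgHom.id D M1) (ci x)
    rw [← AlgHom.comp_apply, ← Algebra.TensorProduct.map_comp, AlgHom.id_comp]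
    exact DFunLike.congr_fun (congrArg (fun f => Algebra.TensorProduct.map f (AlgHom.id D M1)) hφ) (ci x)
  · rw [key, ← θ1.apply_symm_apply (b x)]
    congr 1
    refine Eq.trans ?_ (DFunLike.congr_fun hbj x)
    show Algebra.TensorProduct.map (IsScalarTower.toAlgHom D D' Λ) (AlgHom.id D M1)
      (Algebra.TensorProduct.map ψ' (AlgHom.id D M1) (bj x)) = Algebra.TensorProduct.map j.1.val (AlgHom.id D M1) (bj x)
    rw [← AlgHom.comp_apply, ← Algebra.TensorProduct.map_comp, AlgHom.id_comp]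
    exact DFunLike.congr_fun (congrArg (fun f => Algebra.TensorProduct.map f (AlgHom.id D M1)) hψ) (bj x)

/-- The two maps descend to a finitely generated subalgebra, without étaleness. -/
theorem exists_model_maps (R A0 Λ : Type u) [CommRing R] [IsNoetherianRing R] [CommRing A0] [Algebra.FiniteType ℤ A0]
    [CommRing Λ] [IsNoetherianRing Λ] [Algebra R Λ] [Algebra A0 Λ]
    (C0 B0 F : Type u) [CommRing C0] [CommRing B0] [CommRing F] [Algebra R C0] [Algebra A0 B0]
    [Algebra.FiniteType R C0] [Algebra.FiniteType A0 B0] [Algebra Λ F] [Algebra.FiniteType Λ F]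
    [Algebra R F] [IsScalarTower R Λ F] [Algebra A0 F] [IsScalarTower A0 Λ F]
    (c : C0 →ₐ[R] F) (b : B0 →ₐ[A0] F) :
    ∃ (D : Subalgebra R Λ) (_ : D.FG) (_ : Algebra A0 D) (_ : IsScalarTower A0 D Λ) (M : Type u) (_ : CommRing M)
      (_ : Algebra D M) (_ : Algebra.FinitePresentation D M) (_ : Algebra R M) (_ : IsScalarTower R D M)
      (_ : Algebra A0 M) (_ : IsScalarTower A0 D M) (γ : C0 →ₐ[R] M) (β : B0 →ₐ[A0] M) (θ : Λ ⊗[D] M ≃ₐ[Λ] F),
      (∀ x, θ (1 ⊗ₜ γ x) = c x) ∧ (∀ x, θ (1 ⊗ₜ β x) = b x) := by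
  classical
  haveI : Algebra.FinitePresentation Λ F := Algebra.FinitePresentation.of_finiteType.1 inferInstance
  haveI : IsNoetherianRing A0 := Algebra.FiniteType.isNoetherianRing ℤ A0
  haveI : Algebra.FinitePresentation A0 B0 := Algebra.FinitePresentation.of_finiteType.1 inferInstance
  haveI : Algebra.FinitePresentation R C0 := Algebra.FinitePresentation.of_finiteType.1 inferInstance
  let P := Algebra.Presentation.ofFinitePresentation Λ F
  obtain ⟨s, hs⟩ := (Algebra.FiniteType.out : (⊤ : Subalgebra ℤ A0).FG)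
  let D : Subalgebra R Λ := Algebra.adjoin R (P.coeffs ∪ (s.image (algebraMap A0 Λ) : Finset Λ))
  have hDfg : D.FG := Subalgebra.fg_def.2 ⟨_, P.finite_coeffs.union (Finset.finite_toSet _), rfl⟩
  haveI : Algebra.FiniteType R D := (Subalgebra.fg_iff_finiteType D).1 hDfg
  haveI : IsNoetherianRing D := Algebra.FiniteType.isNoetherianRing R D
  have hA0 : ∀ a, algebraMap A0 Λ a ∈ D := by
    intro a
    have ha : a ∈ Algebra.adjoin ℤ (s : Set A0) := hs ▸ Algebra.mem_top
    induction ha using Algebra.adjoin_induction with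
    | mem z hz => exact Algebra.subset_adjoin (Or.inr (Finset.mem_image_of_mem _ hz))
    | algebraMap n => rw [eq_intCast, map_intCast]; exact intCast_mem D n
    | add x y _ _ hx hy => rw [map_add]; exact add_mem hx hy
    | mul x y _ _ hx hy => rw [map_mul]; exact mul_mem hx hy
  letI algA : Algebra A0 D := ((algebraMap A0 Λ).codRestrict D hA0).toAlgebra
  haveI : IsScalarTower A0 D Λ := IsScalarTower.of_algebraMap_eq fun _ => rfl
  haveI : P.HasCoeffs D := ⟨fun x hx => ⟨⟨x, Algebra.subset_adjoin (Or.inl hx)⟩, rfl⟩⟩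
  exact exists_model_maps_aux R A0 Λ C0 B0 F c b D (P.ModelOfHasCoeffs D) (P.tensorModelOfHasCoeffsEquiv D)

/-- The pair over `Λ` is étale when the map it induces to `F` is. -/
theorem etale_pairHom_of_equiv {S D Λ E M F : Type u} [CommRing S] [CommRing D] [CommRing Λ] [CommRing E] [CommRing M]
    [CommRing F] [Algebra S D] [Algebra S E] [Algebra D M] [Algebra S M] [IsScalarTower S D M] [Algebra D Λ]
    [Algebra S Λ] [IsScalarTower S D Λ] [Algebra Λ F] [Algebra S F] [IsScalarTower S Λ F]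
    (h : E →ₐ[S] M) (f : E →ₐ[S] F) (θ : Λ ⊗[D] M ≃ₐ[Λ] F) (hθ : ∀ e, θ (1 ⊗ₜ h e) = f e)
    (hf : (baseHom (D := Λ) f).toRingHom.Etale) : (pairHom (D := D) h Λ).toRingHom.Etale := by
  have key : pairHom (D := D) h Λ = θ.symm.toAlgHom.comp (baseHom (D := Λ) f) := by
    refine Algebra.TensorProduct.ext (by ext) (AlgHom.ext fun e => ?_)
    show pairHom (D := D) h Λ ((1 : Λ) ⊗ₜ[S] e) = θ.symm (baseHom (D := Λ) f ((1 : Λ) ⊗ₜ[S] e))
    rw [pairHom_tmul, baseHom_tmul, map_one, one_mul, ← hθ, θ.symm_apply_apply]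
  rw [key]
  exact RingHom.Etale.respectsIso.1 _ θ.symm.toRingEquiv hf

theorem baseHom_includeRight {S D D2 E M : Type u} [CommRing S] [CommRing D] [CommRing D2] [CommRing E] [CommRing M]
    [Algebra S D] [Algebra D D2] [Algebra S D2] [IsScalarTower S D D2] [Algebra S E] [Algebra D M] [Algebra S M]
    [IsScalarTower S D M]
    (h : E →ₐ[S] M) :
    baseHom (D := D2) (((Algebra.TensorProduct.includeRight : M →ₐ[D] D2 ⊗[D] M).restrictScalars S).comp h) =
      pairHom (D := D) h D2 := by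
  refine Algebra.TensorProduct.ext (by ext) (AlgHom.ext fun e => ?_)
  show baseHom (D := D2) _ ((1 : D2) ⊗ₜ[S] e) = pairHom (D := D) h D2 ((1 : D2) ⊗ₜ[S] e)
  rw [pairHom_tmul, baseHom_tmul, map_one, one_mul]
  rfl

/-- Last step: descend the second map, keeping the first étale. -/
theorem exists_model_last (R A0 Λ : Type u) [CommRing R] [CommRing A0] [CommRing Λ] [Algebra R Λ] [Algebra A0 Λ]
    (C0 B0 F : Type u) [CommRing C0] [CommRing B0] [CommRing F] [Algebra R C0] [Algebra A0 B0]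
    [Algebra.FiniteType A0 B0] [Algebra Λ F]
    [Algebra R F] [IsScalarTower R Λ F] [Algebra A0 F] [IsScalarTower A0 Λ F]
    (c : C0 →ₐ[R] F) (b : B0 →ₐ[A0] F) (hb : (baseHom (D := Λ) b).toRingHom.Etale)
    (D : Type u) [CommRing D] [Algebra R D] [Algebra.FiniteType R D] [Algebra A0 D] [Algebra D Λ] [IsScalarTower R D Λ]
    [IsScalarTower A0 D Λ] (M : Type u) [CommRing M] [Algebra D M] [Algebra.FinitePresentation D M]
    [Algebra R M] [IsScalarTower R D M] [Algebra A0 M] [IsScalarTower A0 D M]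
    (γ : C0 →ₐ[R] M) (β : B0 →ₐ[A0] M) (θ : Λ ⊗[D] M ≃ₐ[Λ] F)
    (hγ : ∀ x, θ (1 ⊗ₜ γ x) = c x) (hβ : ∀ x, θ (1 ⊗ₜ β x) = b x)
    (hγe : (baseHom (D := D) γ).toRingHom.Etale) :
    ∃ (D : Type u) (_ : CommRing D) (_ : Algebra R D) (_ : Algebra.FiniteType R D) (_ : Algebra A0 D)
      (π : D →ₐ[R] Λ) (_ : ∀ a, π (algebraMap A0 D a) = algebraMap A0 Λ a)
      (M : Type u) (_ : CommRing M) (_ : Algebra D M) (_ : Algebra R M) (_ : IsScalarTower R D M) (_ : Algebra A0 M)
      (_ : IsScalarTower A0 D M) (γ : C0 →ₐ[R] M) (β : B0 →ₐ[A0] M) (ι : M →+* F),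
      (baseHom (D := D) γ).toRingHom.Etale ∧ (baseHom (D := D) β).toRingHom.Etale ∧
      (∀ d, ι (algebraMap D M d) = algebraMap Λ F (π d)) ∧ (∀ x, ι (γ x) = c x) ∧ (∀ x, ι (β x) = b x) := by
  obtain ⟨D', hD', hβe⟩ := exists_etale_stage β Λ (etale_pairHom_of_equiv β b θ hβ hb)
  haveI : Algebra.FiniteType D D' := (Subalgebra.fg_iff_finiteType D').1 hD'
  haveI : IsScalarTower R D D' := IsScalarTower.of_algebraMap_eq fun r => Subtype.ext
    (IsScalarTower.algebraMap_apply R D Λ r)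
  haveI : IsScalarTower A0 D D' := IsScalarTower.of_algebraMap_eq fun r => Subtype.ext
    (IsScalarTower.algebraMap_apply A0 D Λ r)
  haveI : Algebra.FiniteType R D' := Algebra.FiniteType.trans (S := D) inferInstance inferInstance
  letI : Algebra R (D' ⊗[D] M) := Algebra.TensorProduct.leftAlgebra
  letI : Algebra A0 (D' ⊗[D] M) := Algebra.TensorProduct.leftAlgebra
  haveI : IsScalarTower R D' (D' ⊗[D] M) := TensorProduct.isScalarTower_left
  haveI : IsScalarTower A0 D' (D' ⊗[D] M) := TensorProduct.isScalarTower_left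
  haveI : IsScalarTower R D (D' ⊗[D] M) := IsScalarTower.to₁₂₄ R D D' (D' ⊗[D] M)
  haveI : IsScalarTower A0 D (D' ⊗[D] M) := IsScalarTower.to₁₂₄ A0 D D' (D' ⊗[D] M)
  let ι : D' ⊗[D] M →+* F :=
    θ.toRingEquiv.toRingHom.comp (Algebra.TensorProduct.map (IsScalarTower.toAlgHom D D' Λ) (AlgHom.id D M)).toRingHom
  refine ⟨D', inferInstance, inferInstance, inferInstance, inferInstance, D'.val.restrictScalars R, fun a => ?_,
    D' ⊗[D] M, inferInstance, inferInstance, inferInstance, inferInstance, inferInstance, inferInstance,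
    ((Algebra.TensorProduct.includeRight : M →ₐ[D] D' ⊗[D] M).restrictScalars R).comp γ,
    ((Algebra.TensorProduct.includeRight : M →ₐ[D] D' ⊗[D] M).restrictScalars A0).comp β, ι, ?_, ?_, fun d => ?_,
    fun x => ?_, fun x => ?_⟩
  · rfl
  · rw [baseHom_includeRight]; exact etale_pairHom_of_base γ hγe D'
  · rw [baseHom_includeRight]; exact hβe
  · show θ (Algebra.TensorProduct.map _ _ (d ⊗ₜ[D] (1 : M))) = algebraMap Λ F (d : Λ)
    rw [Algebra.TensorProduct.map_tmul, AlgHom.id_apply]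
    exact θ.commutes (d : Λ)
  · show θ (Algebra.TensorProduct.map _ _ ((1 : D') ⊗ₜ[D] γ x)) = _
    rw [Algebra.TensorProduct.map_tmul, AlgHom.id_apply, map_one, hγ]
  · show θ (Algebra.TensorProduct.map _ _ ((1 : D') ⊗ₜ[D] β x)) = _
    rw [Algebra.TensorProduct.map_tmul, AlgHom.id_apply, map_one, hβ]

/-- Two étale maps to an algebra over `Λ` descend to a finitely generated model. -/
theorem exists_model (R A0 Λ : Type u) [CommRing R] [IsNoetherianRing R] [CommRing A0] [Algebra.FiniteType ℤ A0]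
    [CommRing Λ] [IsNoetherianRing Λ] [Algebra R Λ] [Algebra A0 Λ]
    (C0 B0 F : Type u) [CommRing C0] [CommRing B0] [CommRing F] [Algebra R C0] [Algebra A0 B0]
    [Algebra.FiniteType R C0] [Algebra.FiniteType A0 B0] [Algebra Λ F] [Algebra.FiniteType Λ F]
    [Algebra R F] [IsScalarTower R Λ F] [Algebra A0 F] [IsScalarTower A0 Λ F]
    (c : C0 →ₐ[R] F) (b : B0 →ₐ[A0] F) (hc : (baseHom (D := Λ) c).toRingHom.Etale)
    (hb : (baseHom (D := Λ) b).toRingHom.Etale) :
    ∃ (D : Type u) (_ : CommRing D) (_ : Algebra R D) (_ : Algebra.FiniteType R D) (_ : Algebra A0 D)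
      (π : D →ₐ[R] Λ) (_ : ∀ a, π (algebraMap A0 D a) = algebraMap A0 Λ a)
      (M : Type u) (_ : CommRing M) (_ : Algebra D M) (_ : Algebra R M) (_ : IsScalarTower R D M) (_ : Algebra A0 M)
      (_ : IsScalarTower A0 D M) (γ : C0 →ₐ[R] M) (β : B0 →ₐ[A0] M) (ι : M →+* F),
      (baseHom (D := D) γ).toRingHom.Etale ∧ (baseHom (D := D) β).toRingHom.Etale ∧
      (∀ d, ι (algebraMap D M d) = algebraMap Λ F (π d)) ∧ (∀ x, ι (γ x) = c x) ∧ (∀ x, ι (β x) = b x) := by
  obtain ⟨D, hD, _, _, M, _, _, _, _, _, _, _, γ, β, θ, hγ, hβ⟩ := exists_model_maps R A0 Λ C0 B0 F c b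
  haveI : Algebra.FiniteType R D := (Subalgebra.fg_iff_finiteType D).1 hD
  obtain ⟨D', hD', hγe⟩ := exists_etale_stage γ Λ (etale_pairHom_of_equiv γ c θ hγ hc)
  haveI : Algebra.FiniteType D D' := (Subalgebra.fg_iff_finiteType D').1 hD'
  haveI : IsScalarTower R D D' := IsScalarTower.of_algebraMap_eq fun r => Subtype.ext
    (IsScalarTower.algebraMap_apply R D Λ r)
  haveI : IsScalarTower A0 D D' := IsScalarTower.of_algebraMap_eq fun r => Subtype.ext
    (IsScalarTower.algebraMap_apply A0 D Λ r)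
  haveI : Algebra.FiniteType R D' := Algebra.FiniteType.trans (S := D) inferInstance inferInstance
  letI : Algebra R (D' ⊗[D] M) := Algebra.TensorProduct.leftAlgebra
  letI : Algebra A0 (D' ⊗[D] M) := Algebra.TensorProduct.leftAlgebra
  haveI : IsScalarTower R D' (D' ⊗[D] M) := TensorProduct.isScalarTower_left
  haveI : IsScalarTower A0 D' (D' ⊗[D] M) := TensorProduct.isScalarTower_left
  haveI : IsScalarTower R D (D' ⊗[D] M) := IsScalarTower.to₁₂₄ R D D' (D' ⊗[D] M)
  haveI : IsScalarTower A0 D (D' ⊗[D] M) := IsScalarTower.to₁₂₄ A0 D D' (D' ⊗[D] M)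
  refine exists_model_last R A0 Λ C0 B0 F c b hb D' (D' ⊗[D] M)
    (((Algebra.TensorProduct.includeRight : M →ₐ[D] D' ⊗[D] M).restrictScalars R).comp γ)
    (((Algebra.TensorProduct.includeRight : M →ₐ[D] D' ⊗[D] M).restrictScalars A0).comp β)
    ((Algebra.TensorProduct.cancelBaseChange D D' Λ Λ M).trans θ) (fun x => ?_) (fun x => ?_) ?_
  · simp [hγ]
  · simp [hβ]
  · rw [baseHom_includeRight]; exact hγe

end Groth.Agent.MatchLib
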