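import Groth.Agent.MatchLib.Common
import Groth.Agent.MatchLib.Descend
import Groth.Agent.MatchLib.Points
import Groth.Agent.GRingCompleteLib.Descend
import Groth.Agent.ExcLib.Localization
import Groth.Agent.S9232

/-!
Étale neighbourhoods matching a completed base change, for rings.
-/

set_option autoImplicit false
set_option backward.isDefEq.respectTransparency false
set_option maxHeartbeats 1000000

universe u

open IsLocalRing TensorProduct

namespace Groth.Agent.MatchLib

/-- Elements of the completion are congruent to fractions. -/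
theorem exists_residue_frac {R A : Type u} [CommRing R] (p : Ideal R) [p.IsPrime] [CommRing A] [IsLocalRing A]
    [IsNoetherianRing A] [Algebra R A] [IsLocalization.AtPrime A p] (n : ℕ)
    (l : AdicCompletion (maximalIdeal A) A) :
    ∃ a : A, l - algebraMap A _ a ∈
      (maximalIdeal A ^ n).map (algebraMap A (AdicCompletion (maximalIdeal A) A)) := by
  obtain ⟨a, ha⟩ := Ideal.Quotient.mk_surjective (AdicCompletion.evalₐ (maximalIdeal A) n l)
  exact ⟨a, ArtinApproxLib.mem_of_evalₐ_eq (maximalIdeal A).fg_of_isNoetherianRing n _ _ ha.symm⟩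

/-- Two maps out of a completion into a Noetherian local ring agree when they agree on the base. -/
theorem completion_hom_ext {R A T : Type u} [CommRing R] (p : Ideal R) [p.IsPrime] [CommRing A] [IsLocalRing A]
    [IsNoetherianRing A] [Algebra R A] [IsLocalization.AtPrime A p] [CommRing T] [IsLocalRing T] [IsNoetherianRing T]
    (f g : AdicCompletion (maximalIdeal A) A →+* T)
    (hfg : ∀ r, f (algebraMap A _ (algebraMap R A r)) = g (algebraMap A _ (algebraMap R A r)))
    (hp : ∀ r ∈ p, f (algebraMap A _ (algebraMap R A r)) ∈ maximalIdeal T) : f = g := by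
  have hA : f.comp (algebraMap A _) = g.comp (algebraMap A _) :=
    IsLocalization.ringHom_ext p.primeCompl (RingHom.ext hfg)
  have hle : (maximalIdeal A).map (f.comp (algebraMap A _)) ≤ maximalIdeal T := by
    refine le_of_eq_of_le (congrArg (Ideal.map _) (IsLocalization.AtPrime.map_eq_maximalIdeal p A).symm) ?_
    rw [Ideal.map_map, Ideal.map_le_iff_le_comap]
    exact fun r hr => hp r hr
  have hle' : (maximalIdeal A).map (g.comp (algebraMap A _)) ≤ maximalIdeal T := hA ▸ hle
  refine RingHom.ext fun l => ?_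
  rw [← sub_eq_zero]
  have key : ∀ n : ℕ, f l - g l ∈ maximalIdeal T ^ n := by
    intro n
    obtain ⟨a, ha⟩ := exists_residue_frac p n l
    have h1 : f (l - algebraMap A _ a) ∈ maximalIdeal T ^ n := by
      have := Ideal.mem_map_of_mem f ha
      rw [Ideal.map_map, Ideal.map_pow] at this
      exact Ideal.pow_right_mono hle n this
    have h2 : g (l - algebraMap A _ a) ∈ maximalIdeal T ^ n := by
      have := Ideal.mem_map_of_mem g ha
      rw [Ideal.map_map, Ideal.map_pow] at this
      exact Ideal.pow_right_mono hle' n this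
    have h3 := RingHom.congr_fun hA a
    simp only [RingHom.comp_apply] at h3
    have := sub_mem h1 h2
    rwa [map_sub, map_sub, h3, sub_sub_sub_cancel_right] at this
  have h0 := Ideal.iInf_pow_eq_bot_of_isLocalRing (maximalIdeal T) (maximalIdeal.isMaximal T).ne_top
  exact (Ideal.mem_bot).1 (h0 ▸ Ideal.mem_iInf.2 key)

/-- Residues of the completion of a local ring of `R`. -/
theorem completion_residues {R : Type u} [CommRing R] [IsNoetherianRing R] (p : Ideal R) [p.IsPrime]
    {A : Type u} [CommRing A] [IsLocalRing A] [Algebra R A] [IsLocalization.AtPrime A p] :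
    ((maximalIdeal A).map (algebraMap A (AdicCompletion (maximalIdeal A) A))).IsMaximal ∧
    ((maximalIdeal A).map (algebraMap A (AdicCompletion (maximalIdeal A) A))).comap
      (algebraMap R (AdicCompletion (maximalIdeal A) A)) = p ∧
    Module.Flat R (AdicCompletion (maximalIdeal A) A) ∧
    ∀ l : AdicCompletion (maximalIdeal A) A, ∃ r s : R, s ∉ p ∧
      algebraMap R (AdicCompletion (maximalIdeal A) A) s * l - algebraMap R _ r ∈
        (maximalIdeal A).map (algebraMap A (AdicCompletion (maximalIdeal A) A)) := by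
  haveI : IsNoetherianRing A := IsLocalization.isNoetherianRing p.primeCompl A inferInstance
  haveI hM : ((maximalIdeal A).map (algebraMap A (AdicCompletion (maximalIdeal A) A))).IsMaximal :=
    ArtinApproxLib.map_maximalIdeal_isMaximal
  haveI : Module.Flat A (AdicCompletion (maximalIdeal A) A) := AdicCompletion.flat_of_isNoetherian _
  haveI : Module.Flat R A := IsLocalization.flat A p.primeCompl
  have hRA : ∀ r, algebraMap R (AdicCompletion (maximalIdeal A) A) r = algebraMap A _ (algebraMap R A r) := fun r =>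
    IsScalarTower.algebraMap_apply R A _ r
  -- residues of the completion
  have hMp : ((maximalIdeal A).map (algebraMap A (AdicCompletion (maximalIdeal A) A))).comap
      (algebraMap R (AdicCompletion (maximalIdeal A) A)) = p := by
    rw [IsScalarTower.algebraMap_eq R A (AdicCompletion (maximalIdeal A) A), ← Ideal.comap_comap,
      ← (maximalIdeal.isMaximal A).eq_of_le (Ideal.comap_ne_top _ hM.ne_top) Ideal.le_comap_map]
    exact IsLocalization.AtPrime.comap_maximalIdeal A p
  have hΛres : ∀ l : AdicCompletion (maximalIdeal A) A, ∃ r s : R, s ∉ p ∧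
      algebraMap R (AdicCompletion (maximalIdeal A) A) s * l - algebraMap R _ r ∈
        (maximalIdeal A).map (algebraMap A (AdicCompletion (maximalIdeal A) A)) := by
    intro l
    obtain ⟨a, ha⟩ := exists_residue_frac p 1 l
    rw [pow_one] at ha
    obtain ⟨⟨r, s⟩, hrs⟩ := IsLocalization.surj p.primeCompl a
    refine ⟨r, s, s.2, ?_⟩
    rw [hRA, hRA, ← hrs, map_mul, mul_comm (algebraMap A _ a), ← mul_sub]
    exact Ideal.mul_mem_left _ _ ha
  exact ⟨hM, hMp, Module.Flat.trans R A (AdicCompletion (maximalIdeal A) A), hΛres⟩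

/-- The point of the base change over a point and the closed point. -/
theorem exists_base_point {R C0 : Type u} [CommRing R] [IsNoetherianRing R] [CommRing C0] [Algebra R C0]
    [Algebra.FiniteType R C0] (p : Ideal R) [p.IsPrime] {A : Type u} [CommRing A] [IsLocalRing A] [Algebra R A]
    [IsLocalization.AtPrime A p]
    (P0 : Ideal C0) [P0.IsPrime] (hP0 : P0.comap (algebraMap R C0) = p) :
    ∃ (P : Ideal (AdicCompletion (maximalIdeal A) A ⊗[R] C0)) (_ : P.IsPrime),
      (∀ c, (1 : AdicCompletion (maximalIdeal A) A) ⊗ₜ[R] c ∈ P ↔ c ∈ P0) ∧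
      (∀ l, l ⊗ₜ[R] (1 : C0) ∈ P ↔ l ∈ (maximalIdeal A).map (algebraMap A (AdicCompletion (maximalIdeal A) A))) ∧
      ∀ z : AdicCompletion (maximalIdeal A) A ⊗[R] C0, ∃ s : R, s ∉ p ∧ ∃ c : C0,
        algebraMap R (AdicCompletion (maximalIdeal A) A) s ⊗ₜ[R] (1 : C0) * z - 1 ⊗ₜ c ∈
          P0.map (Algebra.TensorProduct.includeRight : C0 →ₐ[R] AdicCompletion (maximalIdeal A) A ⊗[R] C0) := by
  classical
  obtain ⟨hM, hMp, hfl, hΛres⟩ := completion_residues p (A := A)
  haveI := hM
  -- the field and the point of the base change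
  let kR0 : R →+* P0.ResidueField := (algebraMap C0 P0.ResidueField).comp (algebraMap R C0)
  have hkR0 : RingHom.ker kR0 = p := by
    ext r
    rw [RingHom.mem_ker, RingHom.comp_apply, Ideal.algebraMap_residueField_eq_zero, ← hP0]
    rfl
  obtain ⟨kΛ0, hkΛ0, hkΛ0M⟩ := exists_extend_residue kR0
    ((maximalIdeal A).map (algebraMap A (AdicCompletion (maximalIdeal A) A))) (hMp.trans hkR0.symm)
    (fun l => by
      obtain ⟨r, s, hs, h⟩ := hΛres l
      exact ⟨r, s, fun h0 => hs (hkR0.le h0), h⟩)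
  let kC : AdicCompletion (maximalIdeal A) A ⊗[R] C0 →ₐ[R] P0.ResidueField :=
    Algebra.TensorProduct.lift
      ({ kΛ0 with commutes' := fun r => (RingHom.congr_fun hkΛ0 r).trans (IsScalarTower.algebraMap_apply R C0 P0.ResidueField r).symm } : AdicCompletion (maximalIdeal A) A →ₐ[R] P0.ResidueField)
      (IsScalarTower.toAlgHom R C0 P0.ResidueField)
      fun _ _ => Commute.all _ _
  have hkC1 : ∀ c, kC (1 ⊗ₜ c) = algebraMap C0 P0.ResidueField c := fun c => by
    simp [kC]
  have hkC2 : ∀ l, kC (l ⊗ₜ 1) = kΛ0 l := fun l => by simp [kC]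
  let P : Ideal (AdicCompletion (maximalIdeal A) A ⊗[R] C0) := RingHom.ker kC.toRingHom
  haveI : P.IsPrime := RingHom.ker_isPrime _
  letI : Algebra C0 (AdicCompletion (maximalIdeal A) A ⊗[R] C0) := Algebra.TensorProduct.rightAlgebra
  have hC0 : ∀ c, algebraMap C0 (AdicCompletion (maximalIdeal A) A ⊗[R] C0) c =
      (1 : AdicCompletion (maximalIdeal A) A) ⊗ₜ[R] c := fun c => rfl
  have hPP0 : P.comap (algebraMap C0 (AdicCompletion (maximalIdeal A) A ⊗[R] C0)) = P0 := by
    ext c
    show kC (1 ⊗ₜ c) = 0 ↔ _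
    rw [hkC1, Ideal.algebraMap_residueField_eq_zero]
  -- every element is a fraction of the finite type algebra modulo the point
  have hstar : ∀ z : AdicCompletion (maximalIdeal A) A ⊗[R] C0, ∃ s : R, s ∉ p ∧ ∃ c : C0,
      algebraMap R (AdicCompletion (maximalIdeal A) A) s ⊗ₜ[R] (1 : C0) * z - 1 ⊗ₜ c ∈
        P0.map (algebraMap C0 (AdicCompletion (maximalIdeal A) A ⊗[R] C0)) := by
    have hM1 : ∀ l ∈ (maximalIdeal A).map (algebraMap A (AdicCompletion (maximalIdeal A) A)), ∀ c : C0,
        l ⊗ₜ[R] c ∈ P0.map (algebraMap C0 (AdicCompletion (maximalIdeal A) A ⊗[R] C0)) := by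
      intro l hl c
      replace hl : l ∈ p.map (algebraMap R (AdicCompletion (maximalIdeal A) A)) := by
        have h1 := Ideal.map_mono (f := algebraMap A (AdicCompletion (maximalIdeal A) A))
          (IsLocalization.AtPrime.map_eq_maximalIdeal p A).ge hl
        rwa [Ideal.map_map, ← IsScalarTower.algebraMap_eq] at h1
      induction hl using Submodule.span_induction with
      | mem x hx =>
        obtain ⟨r, hr, rfl⟩ := hx
        rw [Algebra.algebraMap_eq_smul_one, TensorProduct.smul_tmul, ← hC0]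
        refine Ideal.mem_map_of_mem _ ?_
        rw [Algebra.smul_def]
        exact Ideal.mul_mem_right _ _ (hP0.ge hr)
      | zero => rw [zero_tmul]; exact zero_mem _
      | add a b _ _ ha hb => rw [add_tmul]; exact add_mem ha hb
      | smul a x _ hx =>
        have := Ideal.mul_mem_left _ (a ⊗ₜ[R] (1 : C0)) hx
        rwa [Algebra.TensorProduct.tmul_mul_tmul, one_mul] at this
    intro z
    induction z using TensorProduct.induction_on with
    | zero => exact ⟨1, p.primeCompl.one_mem, 0, by simp⟩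
    | tmul l c =>
      obtain ⟨r, s, hs, h⟩ := hΛres l
      refine ⟨s, hs, r • c, ?_⟩
      have := hM1 _ h c
      rw [sub_tmul, Algebra.algebraMap_eq_smul_one r, TensorProduct.smul_tmul] at this
      rwa [Algebra.TensorProduct.tmul_mul_tmul, one_mul]
    | add x y hx hy =>
      obtain ⟨s, hs, c, h⟩ := hx
      obtain ⟨t, ht, d, h'⟩ := hy
      refine ⟨s * t, p.primeCompl.mul_mem hs ht, algebraMap R C0 t * c + algebraMap R C0 s * d, ?_⟩
      have := add_mem (Ideal.mul_mem_left _ (algebraMap R (AdicCompletion (maximalIdeal A) A) t ⊗ₜ[R] (1 : C0)) h)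
        (Ideal.mul_mem_left _ (algebraMap R (AdicCompletion (maximalIdeal A) A) s ⊗ₜ[R] (1 : C0)) h')
      convert this using 1
      have hsw : ∀ (a : R) (e : C0), (1 : AdicCompletion (maximalIdeal A) A) ⊗ₜ[R] (algebraMap R C0 a * e) =
          algebraMap R (AdicCompletion (maximalIdeal A) A) a ⊗ₜ[R] (1 : C0) * (1 ⊗ₜ e) := fun a e => by
        rw [Algebra.TensorProduct.tmul_mul_tmul, one_mul, mul_one, Algebra.algebraMap_eq_smul_one (A := AdicCompletion (maximalIdeal A) A),
          TensorProduct.smul_tmul, Algebra.smul_def]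
      rw [tmul_add, hsw, hsw, map_mul (algebraMap R (AdicCompletion (maximalIdeal A) A)),
        ← one_mul (1 : C0), ← Algebra.TensorProduct.tmul_mul_tmul, one_mul]
      ring
  refine ⟨P, inferInstance, fun c => ?_, fun l => ?_, hstar⟩
  · rw [← hPP0]; rfl
  · show kC (l ⊗ₜ 1) = 0 ↔ _
    rw [hkC2, ← RingHom.mem_ker, hkΛ0M]

/-- The completion does not change along the base change to the completion of the base. -/
theorem exists_completion_equiv {R C0 : Type u} [CommRing R] [IsNoetherianRing R] [CommRing C0] [Algebra R C0]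
    [Algebra.FiniteType R C0] (p : Ideal R) [p.IsPrime] {A : Type u} [CommRing A] [IsLocalRing A] [Algebra R A]
    [IsLocalization.AtPrime A p]
    (P0 : Ideal C0) [P0.IsPrime] {Ax : Type u} [CommRing Ax] [IsLocalRing Ax] [Algebra C0 Ax]
    [IsLocalization.AtPrime Ax P0]
    (P : Ideal (AdicCompletion (maximalIdeal A) A ⊗[R] C0)) [P.IsPrime]
    (hPP : ∀ c, (1 : AdicCompletion (maximalIdeal A) A) ⊗ₜ[R] c ∈ P ↔ c ∈ P0)
    (hPM : ∀ l, l ⊗ₜ[R] (1 : C0) ∈ P ↔ l ∈ (maximalIdeal A).map (algebraMap A (AdicCompletion (maximalIdeal A) A)))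
    (hstar0 : ∀ z : AdicCompletion (maximalIdeal A) A ⊗[R] C0, ∃ s : R, s ∉ p ∧ ∃ c : C0,
        algebraMap R (AdicCompletion (maximalIdeal A) A) s ⊗ₜ[R] (1 : C0) * z - 1 ⊗ₜ c ∈
          P0.map (Algebra.TensorProduct.includeRight : C0 →ₐ[R] AdicCompletion (maximalIdeal A) A ⊗[R] C0))
    {A1 : Type u} [CommRing A1] [IsLocalRing A1] [Algebra (AdicCompletion (maximalIdeal A) A ⊗[R] C0) A1]
    [IsLocalization.AtPrime A1 P] :
    ∃ ψ : AdicCompletion (maximalIdeal Ax) Ax ≃+* AdicCompletion (maximalIdeal A1) A1,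
      ∀ c, ψ (algebraMap Ax _ (algebraMap C0 Ax c)) =
        algebraMap A1 _ (algebraMap (AdicCompletion (maximalIdeal A) A ⊗[R] C0) A1 (1 ⊗ₜ c)) := by
  classical
  haveI : IsNoetherianRing A := IsLocalization.isNoetherianRing p.primeCompl A inferInstance
  obtain ⟨hM, hMp, hfl, hΛres⟩ := completion_residues p (A := A)
  haveI := hfl
  obtain ⟨_, hnΛ, _, _, _⟩ := RatliffLib.compl_facts A
  haveI : IsNoetherianRing (AdicCompletion (maximalIdeal A) A) := hnΛ
  haveI : IsNoetherianRing C0 := Algebra.FiniteType.isNoetherianRing R C0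
  haveI : IsNoetherianRing Ax := IsLocalization.isNoetherianRing P0.primeCompl Ax inferInstance
  letI : Algebra C0 (AdicCompletion (maximalIdeal A) A ⊗[R] C0) := Algebra.TensorProduct.rightAlgebra
  have hC0 : ∀ c, algebraMap C0 (AdicCompletion (maximalIdeal A) A ⊗[R] C0) c =
      (1 : AdicCompletion (maximalIdeal A) A) ⊗ₜ[R] c := fun c => rfl
  have hPP0 : P.comap (algebraMap C0 (AdicCompletion (maximalIdeal A) A ⊗[R] C0)) = P0 := Ideal.ext hPP
  have hP0C : P0.map (algebraMap C0 (AdicCompletion (maximalIdeal A) A ⊗[R] C0)) ≤ P :=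
    Ideal.map_le_iff_le_comap.2 hPP0.ge
  have hstar : ∀ z : AdicCompletion (maximalIdeal A) A ⊗[R] C0, ∃ s : R, s ∉ p ∧ ∃ c : C0,
      algebraMap R (AdicCompletion (maximalIdeal A) A) s ⊗ₜ[R] (1 : C0) * z - 1 ⊗ₜ c ∈
        P0.map (algebraMap C0 (AdicCompletion (maximalIdeal A) A ⊗[R] C0)) := hstar0
  -- the local ring of the base change
  haveI : Algebra.FiniteType (AdicCompletion (maximalIdeal A) A) (AdicCompletion (maximalIdeal A) A ⊗[R] C0) :=
    inferInstance
  haveI : IsNoetherianRing (AdicCompletion (maximalIdeal A) A ⊗[R] C0) :=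
    Algebra.FiniteType.isNoetherianRing (AdicCompletion (maximalIdeal A) A) _
  haveI : Module.Flat C0 (AdicCompletion (maximalIdeal A) A ⊗[R] C0) :=
    Module.Flat.of_linearEquiv
      (Algebra.TensorProduct.commRight R C0 (AdicCompletion (maximalIdeal A) A)).toLinearEquiv.symm
  haveI : IsNoetherianRing A1 := IsLocalization.isNoetherianRing P.primeCompl _ inferInstance
  letI : Algebra C0 A1 := ((algebraMap (AdicCompletion (maximalIdeal A) A ⊗[R] C0) A1).comp
    (algebraMap C0 (AdicCompletion (maximalIdeal A) A ⊗[R] C0))).toAlgebra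
  haveI : IsScalarTower C0 (AdicCompletion (maximalIdeal A) A ⊗[R] C0) A1 := IsScalarTower.of_algebraMap_eq fun _ => rfl
  have hu0 : ∀ c : P0.primeCompl, IsUnit (algebraMap C0 A1 c) := fun c => by
    rw [IsScalarTower.algebraMap_apply C0 (AdicCompletion (maximalIdeal A) A ⊗[R] C0) A1]
    exact IsLocalization.map_units A1
      (⟨_, fun h => c.2 (hPP0.le (Ideal.mem_comap.2 h))⟩ : P.primeCompl)
  letI : Algebra Ax A1 := (IsLocalization.lift hu0 : Ax →+* _).toAlgebra
  haveI : IsScalarTower C0 Ax A1 :=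
    IsScalarTower.of_algebraMap_eq fun c => (IsLocalization.lift_eq hu0 c).symm
  haveI : IsLocalHom (algebraMap Ax A1) := by
    refine ((local_hom_TFAE (algebraMap Ax A1)).out 0 2 rfl rfl).mpr ?_
    rw [← IsLocalization.AtPrime.map_eq_maximalIdeal P0 Ax, Ideal.map_map, ← IsScalarTower.algebraMap_eq,
      IsScalarTower.algebraMap_eq C0 (AdicCompletion (maximalIdeal A) A ⊗[R] C0) A1,
      ← Ideal.map_map, ← IsLocalization.AtPrime.map_eq_maximalIdeal P A1]
    exact Ideal.map_mono hP0C
  haveI : Module.Flat Ax A1 := by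
    haveI : Module.Flat (AdicCompletion (maximalIdeal A) A ⊗[R] C0) A1 :=
      IsLocalization.flat _ P.primeCompl
    haveI : Module.Flat C0 A1 :=
      Module.Flat.trans C0 (AdicCompletion (maximalIdeal A) A ⊗[R] C0) _
    exact (Module.flat_iff_of_isLocalization Ax P0.primeCompl A1).2 inferInstance
  have hsunit : ∀ s : R, s ∉ p → IsUnit (algebraMap (AdicCompletion (maximalIdeal A) A ⊗[R] C0)
      A1 (algebraMap R (AdicCompletion (maximalIdeal A) A) s ⊗ₜ[R] (1 : C0))) := fun s hs => by
    refine IsLocalization.map_units A1 (⟨_, fun h => hs ?_⟩ : P.primeCompl)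
    rw [← hMp]
    exact (hPM _).1 h
  have hm1 : (maximalIdeal Ax).map (algebraMap Ax A1) = maximalIdeal A1 := by
    refine le_antisymm (((local_hom_TFAE _).out 0 2 rfl rfl).mp inferInstance) ?_
    rw [← IsLocalization.AtPrime.map_eq_maximalIdeal P A1,
      ← IsLocalization.AtPrime.map_eq_maximalIdeal P0 Ax, Ideal.map_map, ← IsScalarTower.algebraMap_eq,
      IsScalarTower.algebraMap_eq C0 (AdicCompletion (maximalIdeal A) A ⊗[R] C0) A1,
      ← Ideal.map_map, Ideal.map_le_iff_le_comap]
    intro z hz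
    obtain ⟨s, hs, c, h⟩ := hstar z
    have hc : c ∈ P0 := by
      rw [← hPP0, Ideal.mem_comap, hC0]
      have h1 := sub_mem (P.mul_mem_left (algebraMap R (AdicCompletion (maximalIdeal A) A) s ⊗ₜ[R] (1 : C0)) hz) (hP0C h)
      rwa [sub_sub_cancel] at h1
    rw [Ideal.mem_comap, ← Ideal.unit_mul_mem_iff_mem _ (hsunit s hs), ← map_mul]
    refine Ideal.mem_map_of_mem _ ?_
    have := add_mem h (Ideal.mem_map_of_mem (algebraMap C0 (AdicCompletion (maximalIdeal A) A ⊗[R] C0)) hc)
    rwa [hC0, sub_add_cancel] at this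
  have hres1 : Function.Bijective (ResidueField.map (algebraMap Ax A1)) := by
    refine ⟨RingHom.injective _, fun z => ?_⟩
    have key : ∀ z : AdicCompletion (maximalIdeal A) A ⊗[R] C0, ∃ u,
        ResidueField.map (algebraMap Ax A1) u =
          residue _ (algebraMap _ A1 z) := by
      intro z
      obtain ⟨s, hs, c, h⟩ := hstar z
      refine ⟨residue Ax (algebraMap C0 Ax c) / residue Ax (algebraMap C0 Ax (algebraMap R C0 s)), ?_⟩
      have hsC : algebraMap C0 (AdicCompletion (maximalIdeal A) A ⊗[R] C0) (algebraMap R C0 s) =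
          algebraMap R (AdicCompletion (maximalIdeal A) A) s ⊗ₜ[R] (1 : C0) := by
        rw [hC0, Algebra.algebraMap_eq_smul_one, Algebra.algebraMap_eq_smul_one, TensorProduct.smul_tmul]
      have hne : residue A1 (algebraMap _ A1
          (algebraMap R (AdicCompletion (maximalIdeal A) A) s ⊗ₜ[R] (1 : C0))) ≠ 0 :=
        ((hsunit s hs).map _).ne_zero
      have hmem := (IsLocalization.AtPrime.to_map_mem_maximal_iff A1 P _).2 (hP0C h)
      rw [map_sub, map_mul] at hmem
      rw [map_div₀, ResidueField.map_residue, ResidueField.map_residue, ← IsScalarTower.algebraMap_apply,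
        ← IsScalarTower.algebraMap_apply,
        IsScalarTower.algebraMap_apply C0 (AdicCompletion (maximalIdeal A) A ⊗[R] C0) A1,
        IsScalarTower.algebraMap_apply C0 (AdicCompletion (maximalIdeal A) A ⊗[R] C0) A1,
        hsC, hC0, div_eq_iff hne, ← map_mul, eq_comm, ← sub_eq_zero, ← map_sub, residue_eq_zero_iff]
      convert hmem using 1
      ring
    obtain ⟨z, rfl⟩ := residue_surjective z
    obtain ⟨a, b, rfl⟩ := IsLocalization.exists_mk'_eq P.primeCompl z
    obtain ⟨u, hu⟩ := key a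
    obtain ⟨v, hv⟩ := key b
    refine ⟨u / v, ?_⟩
    have hb0 : residue A1 (algebraMap _ _ (b : AdicCompletion (maximalIdeal A) A ⊗[R] C0)) ≠ 0 :=
      ((IsLocalization.map_units A1 b).map _).ne_zero
    rw [map_div₀, hu, hv, div_eq_iff hb0, ← map_mul, IsLocalization.mk'_spec]
  have hψe := CMCat.complHom_algebraMap (algebraMap Ax A1) (maximalIdeal Ax)
    (maximalIdeal A1) hm1.le
  have hψ : Function.Bijective (CMCat.complHom (algebraMap Ax A1) (maximalIdeal Ax)
      (maximalIdeal A1) hm1.le) :=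
    S9232.result Ax A1 hm1 hres1 _ (RingHom.ext hψe)
  refine ⟨RingEquiv.ofBijective _ hψ, fun c => (hψe _).trans ?_⟩
  rw [← IsScalarTower.algebraMap_apply C0 Ax A1]
  rfl

/-- The common neighbourhood over the completion of the base, for a chosen point. -/
theorem exists_nbhd_aux {R C0 A0 B0 : Type u} [CommRing R] [IsNoetherianRing R] [CommRing C0] [Algebra R C0]
    [Algebra.FiniteType R C0] [CommRing A0] [Algebra.FiniteType ℤ A0] [CommRing B0] [Algebra A0 B0]
    [Algebra.FiniteType A0 B0] (p : Ideal R) [p.IsPrime] {A : Type u} [CommRing A] [IsLocalRing A] [Algebra R A]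
    [IsLocalization.AtPrime A p] (hG : CAlg.IsGRing A) [Algebra A0 (AdicCompletion (maximalIdeal A) A)]
    (P0 : Ideal C0) [P0.IsPrime] (hP0 : P0.comap (algebraMap R C0) = p)
    {Ax : Type u} [CommRing Ax] [IsLocalRing Ax] [Algebra C0 Ax] [IsLocalization.AtPrime Ax P0]
    (Q : Ideal (AdicCompletion (maximalIdeal A) A ⊗[A0] B0)) [Q.IsPrime]
    (hQ : Q.comap (algebraMap (AdicCompletion (maximalIdeal A) A) (AdicCompletion (maximalIdeal A) A ⊗[A0] B0)) =
      (maximalIdeal A).map (algebraMap A (AdicCompletion (maximalIdeal A) A)))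
    {A' : Type u} [CommRing A'] [IsLocalRing A'] [Algebra (AdicCompletion (maximalIdeal A) A ⊗[A0] B0) A']
    [IsLocalization.AtPrime A' Q]
    (φ : AdicCompletion (maximalIdeal A') A' ≃+* AdicCompletion (maximalIdeal Ax) Ax)
    (hφ : ∀ r : R, φ (algebraMap A' _ (algebraMap (AdicCompletion (maximalIdeal A) A ⊗[A0] B0) A'
        (algebraMap (AdicCompletion (maximalIdeal A) A) (AdicCompletion (maximalIdeal A) A ⊗[A0] B0)
          (algebraMap A _ (algebraMap R A r))))) =
      algebraMap Ax _ (algebraMap C0 Ax (algebraMap R C0 r)))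
    (P : Ideal (AdicCompletion (maximalIdeal A) A ⊗[R] C0)) [P.IsPrime]
    (hPP : ∀ c, (1 : AdicCompletion (maximalIdeal A) A) ⊗ₜ[R] c ∈ P ↔ c ∈ P0)
    {A1 : Type u} [CommRing A1] [IsLocalRing A1] [Algebra (AdicCompletion (maximalIdeal A) A ⊗[R] C0) A1] [IsLocalization.AtPrime A1 P]
    (ψ : AdicCompletion (maximalIdeal Ax) Ax ≃+* AdicCompletion (maximalIdeal A1) A1)
    (hψ : ∀ c, ψ (algebraMap Ax _ (algebraMap C0 Ax c)) =
      algebraMap A1 _ (algebraMap (AdicCompletion (maximalIdeal A) A ⊗[R] C0) A1 (1 ⊗ₜ c))) :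
    ∃ (F : Type u) (_ : CommRing F) (_ : Algebra (AdicCompletion (maximalIdeal A) A ⊗[R] C0) F) (g : AdicCompletion (maximalIdeal A) A ⊗[A0] B0 →+* F),
      Algebra.Etale (AdicCompletion (maximalIdeal A) A ⊗[R] C0) F ∧ g.Etale ∧
      (∀ l, g (algebraMap (AdicCompletion (maximalIdeal A) A) _ l) = algebraMap (AdicCompletion (maximalIdeal A) A ⊗[R] C0) F (algebraMap (AdicCompletion (maximalIdeal A) A) _ l)) ∧
      ∃ (pF : Ideal F) (_ : pF.IsPrime),
        pF.comap (algebraMap (AdicCompletion (maximalIdeal A) A ⊗[R] C0) F) = P ∧ pF.comap g = Q ∧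
        (∀ x : F, ∃ r s : AdicCompletion (maximalIdeal A) A ⊗[R] C0, s ∉ P ∧ algebraMap (AdicCompletion (maximalIdeal A) A ⊗[R] C0) F s * x - algebraMap _ F r ∈ pF) ∧
        (∀ x : F, ∃ r s, s ∉ Q ∧ g s * x - g r ∈ pF) := by
  classical
  haveI := hG.1
  obtain ⟨_, hnΛ, hcΛ, _, _⟩ := RatliffLib.compl_facts A
  haveI : IsNoetherianRing (AdicCompletion (maximalIdeal A) A) := hnΛ
  haveI : IsAdicComplete (maximalIdeal (AdicCompletion (maximalIdeal A) A)) (AdicCompletion (maximalIdeal A) A) := hcΛ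
  haveI : IsNoetherianRing (AdicCompletion (maximalIdeal A) A ⊗[R] C0) := Algebra.FiniteType.isNoetherianRing (AdicCompletion (maximalIdeal A) A) _
  haveI : IsNoetherianRing A1 := IsLocalization.isNoetherianRing P.primeCompl A1 inferInstance
  haveI := RegLocal.isNoetherianRing_completion A1 (maximalIdeal A1)
  haveI := RegLocal.isLocalRing_completion A1 _ (maximalIdeal.isMaximal A1).ne_top
  have hRA : ∀ r, algebraMap R (AdicCompletion (maximalIdeal A) A) r = algebraMap A _ (algebraMap R A r) := fun r =>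
    IsScalarTower.algebraMap_apply R A _ r
  let φ1 : AdicCompletion (maximalIdeal A') A' ≃+* AdicCompletion (maximalIdeal A1) A1 := φ.trans ψ
  have hφ1 : ∀ l, φ1 (algebraMap A' _ (algebraMap (AdicCompletion (maximalIdeal A) A ⊗[A0] B0) A'
      (algebraMap (AdicCompletion (maximalIdeal A) A) _ l))) =
      algebraMap A1 _ (algebraMap (AdicCompletion (maximalIdeal A) A ⊗[R] C0) A1
        (algebraMap (AdicCompletion (maximalIdeal A) A) _ l)) := by
    intro l
    refine RingHom.congr_fun (completion_hom_ext p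
      (φ1.toRingHom.comp ((algebraMap A' _).comp ((algebraMap (AdicCompletion (maximalIdeal A) A ⊗[A0] B0) A').comp
        (algebraMap (AdicCompletion (maximalIdeal A) A) _))))
      ((algebraMap A1 _).comp ((algebraMap (AdicCompletion (maximalIdeal A) A ⊗[R] C0)
        A1).comp (algebraMap (AdicCompletion (maximalIdeal A) A) _))) (fun r => ?_) (fun r hr => ?_)) l
    · show ψ (φ _) = _
      simp only [RingHom.comp_apply]
      rw [hφ, hψ]
      congr 2
      rw [← hRA, Algebra.TensorProduct.algebraMap_apply, Algebra.algebraMap_self, RingHom.id_apply,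
        Algebra.algebraMap_eq_smul_one, Algebra.algebraMap_eq_smul_one, TensorProduct.smul_tmul]
    · show ψ (φ _) ∈ _
      simp only [RingHom.comp_apply]
      rw [hφ, hψ, AdicCompletion.maximalIdeal_eq_map]
      refine Ideal.mem_map_of_mem _ ((IsLocalization.AtPrime.to_map_mem_maximal_iff A1 P _).2 ?_)
      exact (hPP _).2 (hP0.ge hr)
  exact exists_common_nbhd (Λ := AdicCompletion (maximalIdeal A) A) P Q
    (ExcLib.isGRing_of_isLocalization P.primeCompl
      (GRingCompleteLib.isGRing_finiteType (AdicCompletion (maximalIdeal A) A) (AdicCompletion (maximalIdeal A) A ⊗[R] C0))) φ1 hφ1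

set_option maxHeartbeats 4000000 in
/-- Descending a common neighbourhood and approximating. -/
theorem exists_descend {R C0 A0 B0 : Type u} [CommRing R] [IsNoetherianRing R] [CommRing C0] [Algebra R C0]
    [Algebra.FiniteType R C0] [CommRing A0] [Algebra.FiniteType ℤ A0] [CommRing B0] [Algebra A0 B0]
    [Algebra.FiniteType A0 B0] (p : Ideal R) [p.IsPrime] {A : Type u} [CommRing A] [IsLocalRing A] [Algebra R A]
    [IsLocalization.AtPrime A p] (hG : CAlg.IsGRing A) [Algebra A0 (AdicCompletion (maximalIdeal A) A)]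
    (P0 : Ideal C0) (Q : Ideal (AdicCompletion (maximalIdeal A) A ⊗[A0] B0))
    (P : Ideal (AdicCompletion (maximalIdeal A) A ⊗[R] C0))
    (hPP : ∀ c, (1 : AdicCompletion (maximalIdeal A) A) ⊗ₜ[R] c ∈ P ↔ c ∈ P0)
    (hPM : ∀ l, l ⊗ₜ[R] (1 : C0) ∈ P ↔ l ∈ (maximalIdeal A).map (algebraMap A (AdicCompletion (maximalIdeal A) A)))
    (F : Type u) [CommRing F] [Algebra (AdicCompletion (maximalIdeal A) A ⊗[R] C0) F] (g : AdicCompletion (maximalIdeal A) A ⊗[A0] B0 →+* F)
    (hFC : Algebra.Etale (AdicCompletion (maximalIdeal A) A ⊗[R] C0) F) (hg : g.Etale)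
    (hgΛ : ∀ l, g (algebraMap (AdicCompletion (maximalIdeal A) A) _ l) = algebraMap (AdicCompletion (maximalIdeal A) A ⊗[R] C0) F (algebraMap (AdicCompletion (maximalIdeal A) A) _ l))
    (pF : Ideal F) [pF.IsPrime] (hFP : pF.comap (algebraMap (AdicCompletion (maximalIdeal A) A ⊗[R] C0) F) = P) (hFQ : pF.comap g = Q)
    (hresC : ∀ x : F, ∃ r s : AdicCompletion (maximalIdeal A) A ⊗[R] C0, s ∉ P ∧ algebraMap (AdicCompletion (maximalIdeal A) A ⊗[R] C0) F s * x - algebraMap _ F r ∈ pF)
    (hresB : ∀ x : F, ∃ r s, s ∉ Q ∧ g s * x - g r ∈ pF) :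
    ∃ (R' : Type u) (_ : CommRing R') (_ : Algebra R R') (_ : Algebra A0 R') (p' : Ideal R') (_ : p'.IsPrime),
      Algebra.Etale R R' ∧ p'.comap (algebraMap R R') = p ∧
      (∀ x : R', ∃ r s : R, s ∉ p ∧ algebraMap R R' s * x - algebraMap R R' r ∈ p') ∧
      (∀ a : A0, algebraMap A0 R' a ∈ p' ↔ algebraMap A0 (AdicCompletion (maximalIdeal A) A) a ∈
        (maximalIdeal A).map (algebraMap A (AdicCompletion (maximalIdeal A) A))) ∧
      ∃ (W : Type u) (_ : CommRing W) (gC : C0 →+* W) (gB : R' ⊗[A0] B0 →+* W) (w : Ideal W) (_ : w.IsPrime),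
        gC.Etale ∧ gB.Etale ∧
        (∀ r, gC (algebraMap R C0 r) = gB (algebraMap R' (R' ⊗[A0] B0) (algebraMap R R' r))) ∧
        w.comap gC = P0 ∧
        (∀ x, gB ((Algebra.TensorProduct.includeRight : B0 →ₐ[A0] R' ⊗[A0] B0) x) ∈ w ↔
          (Algebra.TensorProduct.includeRight :
            B0 →ₐ[A0] AdicCompletion (maximalIdeal A) A ⊗[A0] B0) x ∈ Q) ∧
        w.comap (gB.comp (algebraMap R' (R' ⊗[A0] B0))) = p' ∧
        (∀ z, ∃ r s, gC s ∉ w ∧ gC s * z - gC r ∈ w) ∧
        (∀ z, ∃ r s, gB s ∉ w ∧ gB s * z - gB r ∈ w) := by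
  classical
  haveI := hG.1
  obtain ⟨hM, hMp, _, hΛres⟩ := completion_residues p (A := A)
  haveI := hM
  obtain ⟨_, hnΛ, _, _, _⟩ := RatliffLib.compl_facts A
  haveI : IsNoetherianRing (AdicCompletion (maximalIdeal A) A) := hnΛ
  haveI := hFC
  have hRA : ∀ r, algebraMap R (AdicCompletion (maximalIdeal A) A) r = algebraMap A _ (algebraMap R A r) := fun r =>
    IsScalarTower.algebraMap_apply R A _ r
  -- algebras on the neighbourhood
  letI : Algebra (AdicCompletion (maximalIdeal A) A) F :=
    ((algebraMap (AdicCompletion (maximalIdeal A) A ⊗[R] C0) F).comp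
      (algebraMap (AdicCompletion (maximalIdeal A) A) _)).toAlgebra
  haveI : IsScalarTower (AdicCompletion (maximalIdeal A) A) (AdicCompletion (maximalIdeal A) A ⊗[R] C0) F :=
    IsScalarTower.of_algebraMap_eq (R := AdicCompletion (maximalIdeal A) A) (S := AdicCompletion (maximalIdeal A) A ⊗[R] C0) (A := F) fun _ => rfl
  haveI : Algebra.FiniteType (AdicCompletion (maximalIdeal A) A) F :=
    Algebra.FiniteType.trans (R := AdicCompletion (maximalIdeal A) A)
      (S := AdicCompletion (maximalIdeal A) A ⊗[R] C0) (A := F) inferInstance inferInstance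
  letI : Algebra R F := ((algebraMap (AdicCompletion (maximalIdeal A) A) F).comp (algebraMap R _)).toAlgebra
  haveI : IsScalarTower R (AdicCompletion (maximalIdeal A) A) F := IsScalarTower.of_algebraMap_eq fun _ => rfl
  letI : Algebra A0 F := ((algebraMap (AdicCompletion (maximalIdeal A) A) F).comp (algebraMap A0 _)).toAlgebra
  haveI : IsScalarTower A0 (AdicCompletion (maximalIdeal A) A) F := IsScalarTower.of_algebraMap_eq fun _ => rfl
  let c : C0 →ₐ[R] F :=
    { (algebraMap (AdicCompletion (maximalIdeal A) A ⊗[R] C0) F).comp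
        (Algebra.TensorProduct.includeRight : C0 →ₐ[R] AdicCompletion (maximalIdeal A) A ⊗[R] C0).toRingHom with
      commutes' := fun r => by
        show algebraMap (AdicCompletion (maximalIdeal A) A ⊗[R] C0) F ((1 : AdicCompletion (maximalIdeal A) A) ⊗ₜ[R] algebraMap R C0 r) =
          algebraMap (AdicCompletion (maximalIdeal A) A ⊗[R] C0) F (algebraMap R (AdicCompletion (maximalIdeal A) A) r ⊗ₜ[R] (1 : C0))
        rw [Algebra.algebraMap_eq_smul_one r, Algebra.algebraMap_eq_smul_one r, TensorProduct.smul_tmul] }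
  let b : B0 →ₐ[A0] F :=
    { g.comp (Algebra.TensorProduct.includeRight : B0 →ₐ[A0] AdicCompletion (maximalIdeal A) A ⊗[A0] B0).toRingHom with
      commutes' := fun a => by
        show g ((1 : AdicCompletion (maximalIdeal A) A) ⊗ₜ[A0] algebraMap A0 B0 a) =
          algebraMap (AdicCompletion (maximalIdeal A) A) F (algebraMap A0 _ a)
        rw [Algebra.algebraMap_eq_smul_one a, ← TensorProduct.smul_tmul, ← Algebra.algebraMap_eq_smul_one]
        exact hgΛ _ }
  have hc : (baseHom (D := AdicCompletion (maximalIdeal A) A) c).toRingHom.Etale := by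
    have e : baseHom (D := AdicCompletion (maximalIdeal A) A) c =
        IsScalarTower.toAlgHom (AdicCompletion (maximalIdeal A) A) (AdicCompletion (maximalIdeal A) A ⊗[R] C0) F := by
      refine Algebra.TensorProduct.ext (by ext) (AlgHom.ext fun x => ?_)
      show baseHom (D := AdicCompletion (maximalIdeal A) A) c ((1 : AdicCompletion (maximalIdeal A) A) ⊗ₜ[R] x) = _
      rw [baseHom_tmul, map_one, one_mul]
      rfl
    rw [e]
    exact RingHom.etale_algebraMap.2 hFC
  have hb : (baseHom (D := AdicCompletion (maximalIdeal A) A) b).toRingHom.Etale := by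
    have e : (baseHom (D := AdicCompletion (maximalIdeal A) A) b).toRingHom = g := by
      refine RingHom.ext fun t => ?_
      induction t using TensorProduct.induction_on with
      | zero => simp
      | tmul l x =>
        show baseHom (D := AdicCompletion (maximalIdeal A) A) b (l ⊗ₜ[A0] x) = g (l ⊗ₜ x)
        rw [baseHom_tmul, show l ⊗ₜ[A0] x = algebraMap (AdicCompletion (maximalIdeal A) A) _ l * (1 ⊗ₜ x) by simp,
          map_mul, hgΛ]
        rfl
      | add x y hx hy => rw [map_add, map_add, hx, hy]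
    rw [e]; exact hg
  obtain ⟨D, _, _, _, _, π, hπA, Mod, _, _, _, _, _, _, γ, β, ι, hγe, hβe, hιD, hιγ, hιβ⟩ :=
    exists_model R A0 (AdicCompletion (maximalIdeal A) A) C0 B0 F c b hc hb
  haveI : Algebra.FinitePresentation R D := Algebra.FinitePresentation.of_finiteType.1 inferInstance
  -- approximation
  obtain ⟨R', _, _, hR', p', hp', δ, hcomapR, hresR, hδR, hδp, -⟩ :=
    ArtinApproxLib.exists_nbhd_approx (R₀ := R) (C := R) (B := D) p hG π.toRingHom
      (fun r => (π.commutes r).trans (hRA r)) 1 le_rfl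
  haveI := hR'
  haveI := hp'
  -- maps to the residue field
  let kF : F →+* pF.ResidueField := algebraMap F pF.ResidueField
  let kΛ : AdicCompletion (maximalIdeal A) A →+* pF.ResidueField :=
    kF.comp (algebraMap (AdicCompletion (maximalIdeal A) A) F)
  have hkΛM : ∀ l, l ∈ (maximalIdeal A).map (algebraMap A (AdicCompletion (maximalIdeal A) A)) ↔ kΛ l = 0 := by
    intro l
    show _ ↔ kF (algebraMap (AdicCompletion (maximalIdeal A) A ⊗[R] C0) F (algebraMap (AdicCompletion (maximalIdeal A) A) _ l)) = 0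
    rw [Ideal.algebraMap_residueField_eq_zero, ← Ideal.mem_comap, hFP]
    exact (hPM l).symm
  let kR : R →+* pF.ResidueField := kΛ.comp (algebraMap R _)
  have hkR : RingHom.ker kR = p := by
    ext r
    rw [RingHom.mem_ker, RingHom.comp_apply, ← hkΛM, ← Ideal.mem_comap, hMp]
  obtain ⟨χR, hχR, hχRp⟩ := exists_extend_residue kR p' (hcomapR.trans hkR.symm) (fun x => by
    obtain ⟨r, s, hs, h⟩ := hresR x
    exact ⟨r, s, fun h0 => hs (hkR.le h0), h⟩)
  have hχδ : ∀ d, χR (δ d) = kΛ (π d) := by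
    intro d
    obtain ⟨r, s, hs, h⟩ := hresR (δ d)
    have h' : δ (algebraMap R D s * d - algebraMap R D r) ∈ p' := by
      rwa [map_sub, map_mul, hδR, hδR, Algebra.algebraMap_self, RingHom.id_apply, RingHom.id_apply]
    have h1 := (hkΛM _).1 ((hδp _).1 h')
    have h2 : χR (algebraMap R R' s * δ d - algebraMap R R' r) = 0 := RingHom.mem_ker.1 (hχRp.ge h)
    simp only [AlgHom.toRingHom_eq_coe, RingHom.coe_coe, map_sub, map_mul, AlgHom.commutes] at h1
    rw [map_sub, map_mul, show χR (algebraMap R R' s) = kR s from RingHom.congr_fun hχR s,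
      show χR (algebraMap R R' r) = kR r from RingHom.congr_fun hχR r, sub_eq_zero] at h2
    rw [sub_eq_zero] at h1
    have hs0 : kR s ≠ 0 := fun h0 => hs (hkR.le h0)
    exact mul_left_cancel₀ hs0 (h2.trans h1.symm)
  letI : Algebra D R' := δ.toAlgebra
  haveI : IsScalarTower R D R' := IsScalarTower.of_algebraMap_eq fun r => (hδR r).symm
  letI : Algebra A0 R' := (δ.comp (algebraMap A0 D)).toAlgebra
  haveI : IsScalarTower A0 D R' := IsScalarTower.of_algebraMap_eq fun _ => rfl
  letI : Algebra D pF.ResidueField := (kΛ.comp π.toRingHom).toAlgebra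
  let χW : R' ⊗[D] Mod →ₐ[D] pF.ResidueField :=
    Algebra.TensorProduct.lift
      ({ χR with commutes' := fun d => hχδ d } : R' →ₐ[D] pF.ResidueField)
      ({ kF.comp ι with commutes' := fun d => congrArg kF (hιD d) } : Mod →ₐ[D] pF.ResidueField)
      fun _ _ => Commute.all _ _
  let gC : C0 →+* R' ⊗[D] Mod := (pairHom (D := D) γ R').toRingHom.comp
    (Algebra.TensorProduct.includeRight : C0 →ₐ[R] R' ⊗[R] C0).toRingHom
  let gB : R' ⊗[A0] B0 →+* R' ⊗[D] Mod := (pairHom (D := D) β R').toRingHom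
  have hgC1 : ∀ x, χW (gC x) = kF (algebraMap (AdicCompletion (maximalIdeal A) A ⊗[R] C0) F (1 ⊗ₜ x)) := fun x => by
    show χW (pairHom (D := D) γ R' (1 ⊗ₜ x)) = _
    rw [pairHom_tmul]
    simp only [χW, Algebra.TensorProduct.lift_tmul]
    show χR 1 * kF (ι (γ x)) = _
    rw [map_one, one_mul, hιγ]
    rfl
  have hgB1 : ∀ r x, χW (gB (r ⊗ₜ x)) = χR r * kF (g (1 ⊗ₜ x)) := fun r x => by
    show χW (pairHom (D := D) β R' (r ⊗ₜ x)) = _
    rw [pairHom_tmul]
    simp only [χW, Algebra.TensorProduct.lift_tmul]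
    show χR r * kF (ι (β x)) = _
    rw [hιβ]
    rfl
  -- generation of the residue field
  have hgenF : ∀ S : Subfield pF.ResidueField, (∀ x, kF x ∈ S) → S = ⊤ := by
    intro S hS
    refine top_le_iff.1 fun z _ => ?_
    obtain ⟨a, d, -, rfl⟩ := IsFractionRing.div_surjective (A := F ⧸ pF) z
    obtain ⟨a, rfl⟩ := Ideal.Quotient.mk_surjective a
    obtain ⟨d, rfl⟩ := Ideal.Quotient.mk_surjective d
    exact div_mem (hS a) (hS d)
  have hΛS : ∀ S : Subfield pF.ResidueField, (∀ r, kR r ∈ S) → ∀ l, kΛ l ∈ S := by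
    intro S hS l
    obtain ⟨r, s, hs, h⟩ := hΛres l
    have h1 := (hkΛM _).1 h
    rw [map_sub, map_mul, sub_eq_zero] at h1
    have hs0 : kR s ≠ 0 := fun h0 => hs (hkR.le h0)
    rw [show kΛ l = kR r / kR s by rw [eq_div_iff hs0, mul_comm]; exact h1]
    exact div_mem (hS r) (hS s)
  have hgenC : Subfield.closure (Set.range (χW.toRingHom.comp gC)) = ⊤ := by
    let S := Subfield.closure (Set.range (χW.toRingHom.comp gC))
    have hS1 : ∀ x, kF (algebraMap (AdicCompletion (maximalIdeal A) A ⊗[R] C0) F (1 ⊗ₜ x)) ∈ S := fun x =>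
      Subfield.subset_closure ⟨x, hgC1 x⟩
    have hS2 : ∀ r, kR r ∈ S := fun r => by
      have := hS1 (algebraMap R C0 r)
      rwa [Algebra.algebraMap_eq_smul_one r, ← TensorProduct.smul_tmul, ← Algebra.algebraMap_eq_smul_one r] at this
    have hS3 : ∀ z, kF (algebraMap (AdicCompletion (maximalIdeal A) A ⊗[R] C0) F z) ∈ S := fun z => by
      induction z using TensorProduct.induction_on with
      | zero => rw [map_zero, map_zero]; exact zero_mem _
      | tmul l x =>
        rw [show l ⊗ₜ[R] x = algebraMap (AdicCompletion (maximalIdeal A) A) _ l * (1 ⊗ₜ x) by simp, map_mul, map_mul]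
        exact mul_mem (hΛS S hS2 l) (hS1 x)
      | add x y hx hy => rw [map_add, map_add]; exact add_mem hx hy
    refine hgenF S fun x => ?_
    obtain ⟨r, s, hs, h⟩ := hresC x
    have h0 : kF (algebraMap _ F s) ≠ 0 := fun h0 =>
      hs (hFP.le (Ideal.mem_comap.2 (Ideal.algebraMap_residueField_eq_zero.1 h0)))
    have h1 := Ideal.algebraMap_residueField_eq_zero.2 h
    rw [map_sub, map_mul, sub_eq_zero] at h1
    rw [show kF x = kF (algebraMap _ F r) / kF (algebraMap _ F s) by rw [eq_div_iff h0, mul_comm]; exact h1]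
    exact div_mem (hS3 r) (hS3 s)
  have hgenB : Subfield.closure (Set.range (χW.toRingHom.comp gB)) = ⊤ := by
    let S := Subfield.closure (Set.range (χW.toRingHom.comp gB))
    have hS2 : ∀ r, kR r ∈ S := fun r => Subfield.subset_closure ⟨algebraMap R R' r ⊗ₜ 1, by
      show χW (gB _) = _
      rw [hgB1, ← Algebra.TensorProduct.one_def, map_one, map_one, mul_one]
      exact RingHom.congr_fun hχR r⟩
    have hS1 : ∀ x, kF (g (1 ⊗ₜ x)) ∈ S := fun x => Subfield.subset_closure ⟨1 ⊗ₜ x, by
      show χW (gB _) = _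
      rw [hgB1, map_one, one_mul]⟩
    have hS3 : ∀ z, kF (g z) ∈ S := fun z => by
      induction z using TensorProduct.induction_on with
      | zero => rw [map_zero, map_zero]; exact zero_mem _
      | tmul l x =>
        rw [show l ⊗ₜ[A0] x = algebraMap (AdicCompletion (maximalIdeal A) A) _ l * (1 ⊗ₜ x) by simp, map_mul, map_mul,
          hgΛ]
        exact mul_mem (hΛS S hS2 l) (hS1 x)
      | add x y hx hy => rw [map_add, map_add]; exact add_mem hx hy
    refine hgenF S fun x => ?_
    obtain ⟨r, s, hs, h⟩ := hresB x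
    have h0 : kF (g s) ≠ 0 := fun h0 =>
      hs (hFQ.le (Ideal.mem_comap.2 (Ideal.algebraMap_residueField_eq_zero.1 h0)))
    have h1 := Ideal.algebraMap_residueField_eq_zero.2 h
    rw [map_sub, map_mul, sub_eq_zero] at h1
    rw [show kF x = kF (g r) / kF (g s) by rw [eq_div_iff h0, mul_comm]; exact h1]
    exact div_mem (hS3 r) (hS3 s)
  refine ⟨R', inferInstance, inferInstance, inferInstance, p', hp', hR', hcomapR, hresR, fun a => ?_,
    R' ⊗[D] Mod, inferInstance, gC, gB, RingHom.ker χW.toRingHom, RingHom.ker_isPrime _, ?_,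
    etale_pairHom_of_base β hβe R', fun r => ?_, ?_, fun x => ?_, ?_,
    residue_condition gC χW.toRingHom hgenC, residue_condition gB χW.toRingHom hgenB⟩
  · show δ (algebraMap A0 D a) ∈ p' ↔ _
    rw [hδp]
    show π (algebraMap A0 D a) ∈ _ ↔ _
    rw [hπA]
  · refine RingHom.Etale.stableUnderComposition _ _ ?_ (etale_pairHom_of_base γ hγe R')
    have h := RingHom.Etale.respectsIso.1 _ (Algebra.TensorProduct.comm R C0 R').toRingEquiv
      (RingHom.etale_algebraMap.2 (inferInstance : Algebra.Etale C0 (C0 ⊗[R] R')))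
    convert h using 1
    ext x
    simp
  · show pairHom (D := D) γ R' (1 ⊗ₜ algebraMap R C0 r) = pairHom (D := D) β R' (algebraMap R R' r ⊗ₜ (1 : B0))
    rw [pairHom_tmul, pairHom_tmul, map_one, AlgHom.commutes, IsScalarTower.algebraMap_apply R D Mod,
      Algebra.algebraMap_eq_smul_one, ← TensorProduct.smul_tmul, ← Algebra.algebraMap_eq_smul_one,
      ← IsScalarTower.algebraMap_apply]
  · ext x
    show χW (gC x) = 0 ↔ _
    rw [hgC1, Ideal.algebraMap_residueField_eq_zero, ← Ideal.mem_comap, hFP]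
    exact hPP x
  · show χW (gB (1 ⊗ₜ x)) = 0 ↔ _
    rw [hgB1, map_one, one_mul, Ideal.algebraMap_residueField_eq_zero, ← Ideal.mem_comap, hFQ]
    rfl
  · ext r
    show χW (gB (r ⊗ₜ 1)) = 0 ↔ _
    rw [hgB1, ← Algebra.TensorProduct.one_def, map_one, map_one, mul_one, ← hχRp, RingHom.mem_ker]


/-- The ring form of matching étale neighbourhoods. -/
theorem exists_matching {R C0 A0 B0 : Type u} [CommRing R] [IsNoetherianRing R] [CommRing C0] [Algebra R C0]
    [Algebra.FiniteType R C0] [CommRing A0] [Algebra.FiniteType ℤ A0] [CommRing B0] [Algebra A0 B0]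
    [Algebra.FiniteType A0 B0] (p : Ideal R) [p.IsPrime] {A : Type u} [CommRing A] [IsLocalRing A] [Algebra R A]
    [IsLocalization.AtPrime A p] (hG : CAlg.IsGRing A) [Algebra A0 (AdicCompletion (maximalIdeal A) A)]
    (P0 : Ideal C0) [P0.IsPrime] (hP0 : P0.comap (algebraMap R C0) = p)
    {Ax : Type u} [CommRing Ax] [IsLocalRing Ax] [Algebra C0 Ax] [IsLocalization.AtPrime Ax P0]
    (Q : Ideal (AdicCompletion (maximalIdeal A) A ⊗[A0] B0)) [Q.IsPrime]
    (hQ : Q.comap (algebraMap (AdicCompletion (maximalIdeal A) A) (AdicCompletion (maximalIdeal A) A ⊗[A0] B0)) =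
      (maximalIdeal A).map (algebraMap A (AdicCompletion (maximalIdeal A) A)))
    {A' : Type u} [CommRing A'] [IsLocalRing A'] [Algebra (AdicCompletion (maximalIdeal A) A ⊗[A0] B0) A']
    [IsLocalization.AtPrime A' Q]
    (φ : AdicCompletion (maximalIdeal A') A' ≃+* AdicCompletion (maximalIdeal Ax) Ax)
    (hφ : ∀ r : R, φ (algebraMap A' _ (algebraMap (AdicCompletion (maximalIdeal A) A ⊗[A0] B0) A'
        (algebraMap (AdicCompletion (maximalIdeal A) A) (AdicCompletion (maximalIdeal A) A ⊗[A0] B0)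
          (algebraMap A _ (algebraMap R A r))))) =
      algebraMap Ax _ (algebraMap C0 Ax (algebraMap R C0 r))) :
    ∃ (R' : Type u) (_ : CommRing R') (_ : Algebra R R') (_ : Algebra A0 R') (p' : Ideal R') (_ : p'.IsPrime),
      Algebra.Etale R R' ∧ p'.comap (algebraMap R R') = p ∧
      (∀ x : R', ∃ r s : R, s ∉ p ∧ algebraMap R R' s * x - algebraMap R R' r ∈ p') ∧
      (∀ a : A0, algebraMap A0 R' a ∈ p' ↔ algebraMap A0 (AdicCompletion (maximalIdeal A) A) a ∈
        (maximalIdeal A).map (algebraMap A (AdicCompletion (maximalIdeal A) A))) ∧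
      ∃ (W : Type u) (_ : CommRing W) (gC : C0 →+* W) (gB : R' ⊗[A0] B0 →+* W) (w : Ideal W) (_ : w.IsPrime),
        gC.Etale ∧ gB.Etale ∧
        (∀ r, gC (algebraMap R C0 r) = gB (algebraMap R' (R' ⊗[A0] B0) (algebraMap R R' r))) ∧
        w.comap gC = P0 ∧
        (∀ x, gB ((Algebra.TensorProduct.includeRight : B0 →ₐ[A0] R' ⊗[A0] B0) x) ∈ w ↔
          (Algebra.TensorProduct.includeRight :
            B0 →ₐ[A0] AdicCompletion (maximalIdeal A) A ⊗[A0] B0) x ∈ Q) ∧
        w.comap (gB.comp (algebraMap R' (R' ⊗[A0] B0))) = p' ∧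
        (∀ z, ∃ r s, gC s ∉ w ∧ gC s * z - gC r ∈ w) ∧
        (∀ z, ∃ r s, gB s ∉ w ∧ gB s * z - gB r ∈ w) := by
  obtain ⟨P, hP, hPP, hPM, hstar⟩ := exists_base_point p (A := A) P0 hP0
  haveI := hP
  obtain ⟨ψ, hψ⟩ := exists_completion_equiv p (A := A) P0 (Ax := Ax) P hPP hPM hstar (A1 := Localization.AtPrime P)
  obtain ⟨F, _, _, g, hFC, hg, hgΛ, pF, _, hFP, hFQ, hresC, hresB⟩ :=
    exists_nbhd_aux p hG P0 hP0 Q hQ φ hφ P hPP ψ hψ
  exact exists_descend p hG P0 Q P hPP hPM F g hFC hg hgΛ pF hFP hFQ hresC hresB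

end Groth.Agent.MatchLib
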