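import Groth.Agent.MatchLib.Points

/-!
Local rings of a fibre product with an affine scheme, through a chart.
-/

set_option autoImplicit false

universe u

open AlgebraicGeometry CategoryTheory Limits TensorProduct

namespace Groth.Agent.MatchLib

theorem exists_point_data {Y T : Scheme.{u}} (q : Y ⟶ T) {U : T.Opens} (hU : IsAffineOpen U) {V : Y.Opens}
    (hV : IsAffineOpen V) (hVU : V ≤ q ⁻¹ᵁ U) {X : Type u} [CommRing X] [Algebra Γ(T, U) X]
    (g : Spec (CommRingCat.of X) ⟶ T)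
    (hg : g = Spec.map (CommRingCat.ofHom (algebraMap Γ(T, U) X)) ≫ hU.fromSpec)
    (z : ↑(pullback q g)) (hz : (pullback.fst q g) z ∈ V) :
    letI : Algebra Γ(T, U) Γ(Y, V) := (q.appLE U V hVU).hom.toAlgebra
    ∃ (Q : Ideal (X ⊗[Γ(T, U)] Γ(Y, V))) (_ : Q.IsPrime)
      (alg : Algebra (X ⊗[Γ(T, U)] Γ(Y, V)) ((pullback q g).presheaf.stalk z)),
      letI := alg
      IsLocalization.AtPrime ((pullback q g).presheaf.stalk z) Q ∧
      Q.comap (algebraMap X (X ⊗[Γ(T, U)] Γ(Y, V))) = ((pullback.snd q g) z).asIdeal ∧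
      (∀ b, (Algebra.TensorProduct.includeRight : Γ(Y, V) →ₐ[Γ(T, U)] X ⊗[Γ(T, U)] Γ(Y, V)) b ∈ Q ↔
        b ∈ (hV.primeIdealOf ⟨(pullback.fst q g) z, hz⟩).asIdeal) ∧
      ∀ c : X, algebraMap (X ⊗[Γ(T, U)] Γ(Y, V)) ((pullback q g).presheaf.stalk z) (algebraMap X _ c) =
        (pullback.snd q g).stalkMap z
          ((Spec (CommRingCat.of X)).presheaf.germ ⊤ ((pullback.snd q g) z) trivial
            ((Scheme.ΓSpecIso (CommRingCat.of X)).inv c)) := by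
  letI : Algebra Γ(T, U) Γ(Y, V) := (q.appLE U V hVU).hom.toAlgebra
  subst hg
  obtain ⟨j, hj, hfst, hsnd, hrange⟩ := exists_chart q hU hV hVU (X := X)
  haveI := hj
  obtain ⟨u, rfl⟩ := hrange z hz
  let R := X ⊗[Γ(T, U)] Γ(Y, V)
  letI algS : Algebra (X ⊗[Γ(T, U)] Γ(Y, V))
      ((Spec (CommRingCat.of (X ⊗[Γ(T, U)] Γ(Y, V)))).presheaf.stalk u) :=
    (StructureSheaf.toStalk (X ⊗[Γ(T, U)] Γ(Y, V)) u).hom.toAlgebra
  haveI hloc : IsLocalization.AtPrime ((Spec (CommRingCat.of (X ⊗[Γ(T, U)] Γ(Y, V)))).presheaf.stalk u) u.asIdeal :=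
    StructureSheaf.IsLocalization.to_stalk _ u
  let e := (asIso (j.stalkMap u)).symm.commRingCatIsoToRingEquiv
  letI alg : Algebra (X ⊗[Γ(T, U)] Γ(Y, V))
      ((pullback q (Spec.map (CommRingCat.ofHom (algebraMap Γ(T, U) X)) ≫ hU.fromSpec)).presheaf.stalk (j u)) :=
    (e.toRingHom.comp (algebraMap (X ⊗[Γ(T, U)] Γ(Y, V)) _)).toAlgebra
  refine ⟨u.asIdeal, u.isPrime, alg, IsLocalization.isLocalization_of_algEquiv u.asIdeal.primeCompl
    (AlgEquiv.ofRingEquiv (f := e) fun r => rfl), ?_, fun b => ?_, fun c => ?_⟩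
  · have h := congrArg (fun f : Spec (CommRingCat.of (X ⊗[Γ(T, U)] Γ(Y, V))) ⟶ Spec (CommRingCat.of X) => f u) hsnd
    simp only [Scheme.Hom.comp_apply] at h
    rw [h]
    rfl
  · have h := congrArg (fun f : Spec (CommRingCat.of (X ⊗[Γ(T, U)] Γ(Y, V))) ⟶ Y => f u) hfst
    simp only [Scheme.Hom.comp_apply] at h
    haveI : IsOpenImmersion hV.fromSpec := hV.isOpenImmersion_fromSpec
    have h2 : (Spec.map (CommRingCat.ofHom
        (Algebra.TensorProduct.includeRight : Γ(Y, V) →ₐ[Γ(T, U)] X ⊗[Γ(T, U)] Γ(Y, V)).toRingHom)) u =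
        hV.primeIdealOf ⟨_, hz⟩ :=
      hV.fromSpec.isOpenEmbedding.injective (h.symm.trans (hV.fromSpec_primeIdealOf ⟨_, hz⟩).symm)
    rw [← h2]
    rfl
  · let snd := pullback.snd q (Spec.map (CommRingCat.ofHom (algebraMap Γ(T, U) X)) ≫ hU.fromSpec)
    refine (ConcreteCategory.bijective_of_isIso (j.stalkMap u)).1 ?_
    have h1 : j.stalkMap u (e (algebraMap (X ⊗[Γ(T, U)] Γ(Y, V)) _ (algebraMap X (X ⊗[Γ(T, U)] Γ(Y, V)) c))) =
        algebraMap (X ⊗[Γ(T, U)] Γ(Y, V)) _ (algebraMap X (X ⊗[Γ(T, U)] Γ(Y, V)) c) :=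
      (asIso (j.stalkMap u)).commRingCatIsoToRingEquiv.apply_symm_apply _
    refine h1.trans ?_
    rw [Scheme.Hom.germ_stalkMap_apply, Scheme.Hom.germ_stalkMap_apply]
    have h2 : j.app (snd ⁻¹ᵁ ⊤) (snd.app ⊤ ((Scheme.ΓSpecIso (CommRingCat.of X)).inv c)) =
        (Spec.map (CommRingCat.ofHom (algebraMap X (X ⊗[Γ(T, U)] Γ(Y, V))))).appTop
          ((Scheme.ΓSpecIso (CommRingCat.of X)).inv c) := by
      rw [← CommRingCat.comp_apply (snd.app ⊤), ← Scheme.Hom.comp_app]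
      show (j ≫ snd).appTop _ = _
      rw [hsnd]
    show _ = (Spec (CommRingCat.of (X ⊗[Γ(T, U)] Γ(Y, V)))).presheaf.germ (j ⁻¹ᵁ snd ⁻¹ᵁ ⊤) u _
      (j.app (snd ⁻¹ᵁ ⊤) (snd.app ⊤ ((Scheme.ΓSpecIso (CommRingCat.of X)).inv c)))
    rw [h2, ← CommRingCat.comp_apply _ (Spec.map _).appTop, ← Scheme.ΓSpecIso_inv_naturality, CommRingCat.comp_apply]
    rfl

end Groth.Agent.MatchLib
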