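import Mathlib
import Groth.Agent.AlgSysLib.Smooth

/-!
Subalgebra systems, lifting of maps out of finitely presented algebras, and descent of étaleness of a map
between base changed algebras.
-/

set_option autoImplicit false

universe u

open TensorProduct

namespace Groth.Agent.MatchLib

open Groth.Agent.AlgSysLib

/-- An algebra is the union of its finitely generated subalgebras. -/
theorem isAlgSys_fg (R A : Type u) [CommRing R] [CommRing A] [Algebra R A] :
    IsAlgSys (G := fun D : {D : Subalgebra R A // D.FG} => (D.1 : Type u)) (A := A) (fun D => D.1.val) where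
  ne := ⟨⟨⊥, Subalgebra.fg_bot⟩⟩
  dir i j := by
    refine ⟨⟨i.1 ⊔ j.1, i.2.sup j.2⟩, Subalgebra.inclusion le_sup_left, Subalgebra.inclusion le_sup_right, ?_, ?_⟩
    · exact AlgHom.ext fun _ => rfl
    · exact AlgHom.ext fun _ => rfl
  surj a := ⟨⟨Algebra.adjoin R {a}, ⟨{a}, by simp⟩⟩, ⟨a, Algebra.subset_adjoin rfl⟩, rfl⟩
  ker i x hx := ⟨i, AlgHom.id R _, rfl, Subtype.ext hx⟩

variable {R : Type u} [CommRing R] {ι : Type u} {G : ι → Type u} [∀ i, CommRing (G i)] [∀ i, Algebra R (G i)]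
  {A : Type u} [CommRing A] [Algebra R A] {g : ∀ i, G i →ₐ[R] A}

/-- Base change on the right. -/
theorem baseChangeRight (hS : IsAlgSys g) (X : Type u) [CommRing X] [Algebra R X] :
    IsAlgSys (R := R) (G := fun i => G i ⊗[R] X) (A := A ⊗[R] X)
      (fun i => Algebra.TensorProduct.map (g i) (AlgHom.id R X)) where
  ne := hS.ne
  dir i j := by
    obtain ⟨k, φ, ψ, hφ, hψ⟩ := hS.dir i j
    refine ⟨k, Algebra.TensorProduct.map φ (AlgHom.id R X), Algebra.TensorProduct.map ψ (AlgHom.id R X), ?_, ?_⟩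
    · rw [← Algebra.TensorProduct.map_comp, hφ, AlgHom.id_comp]
    · rw [← Algebra.TensorProduct.map_comp, hψ, AlgHom.id_comp]
  surj t := by
    induction t using TensorProduct.induction_on with
    | zero => exact ⟨hS.ne.some, 0, map_zero _⟩
    | tmul a x =>
      obtain ⟨i, b, rfl⟩ := hS.surj a
      exact ⟨i, b ⊗ₜ x, rfl⟩
    | add s t hs ht =>
      obtain ⟨i, a, rfl⟩ := hs
      obtain ⟨j, b, rfl⟩ := ht
      obtain ⟨k, φ, ψ, hφ, hψ⟩ := hS.dir i j
      refine ⟨k, Algebra.TensorProduct.map φ (AlgHom.id R X) a + Algebra.TensorProduct.map ψ (AlgHom.id R X) b, ?_⟩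
      rw [map_add, ← AlgHom.comp_apply, ← AlgHom.comp_apply, ← Algebra.TensorProduct.map_comp,
        ← Algebra.TensorProduct.map_comp, hφ, hψ, AlgHom.id_comp]
  ker i x hx := by
    obtain ⟨j, φ, hφ, h⟩ := hS.exists_kill_rTensor i x hx
    exact ⟨j, Algebra.TensorProduct.map φ (AlgHom.id R X), by rw [← Algebra.TensorProduct.map_comp, hφ, AlgHom.id_comp], h⟩

/-- A system stays one over a smaller base. -/
theorem restrictScalars (hS : IsAlgSys g) (R₀ : Type u) [CommRing R₀] [Algebra R₀ R] [∀ i, Algebra R₀ (G i)]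
    [∀ i, IsScalarTower R₀ R (G i)] [Algebra R₀ A] [IsScalarTower R₀ R A] :
    IsAlgSys (R := R₀) (fun i => (g i).restrictScalars R₀) where
  ne := hS.ne
  dir i j := by
    obtain ⟨k, φ, ψ, hφ, hψ⟩ := hS.dir i j
    exact ⟨k, φ.restrictScalars R₀, ψ.restrictScalars R₀, AlgHom.ext fun x => DFunLike.congr_fun hφ x,
      AlgHom.ext fun x => DFunLike.congr_fun hψ x⟩
  surj := hS.surj
  ker i x hx := by
    obtain ⟨j, φ, hφ, h⟩ := hS.ker i x hx
    exact ⟨j, φ.restrictScalars R₀, AlgHom.ext fun x => DFunLike.congr_fun hφ x, h⟩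

/-- A map out of a finitely presented algebra lifts to a stage. -/
theorem exists_lift_hom (hS : IsAlgSys g) {C : Type u} [CommRing C] [Algebra R C] [Algebra.FinitePresentation R C]
    (f : C →ₐ[R] A) : ∃ i, ∃ fi : C →ₐ[R] G i, (g i).comp fi = f := by
  classical
  obtain ⟨n, π, hπ, s, hs⟩ := Algebra.FinitePresentation.out (R := R) (A := C)
  obtain ⟨i, x, hx⟩ := hS.exists_lift_fin fun k => f (π (MvPolynomial.X k))
  let l : MvPolynomial (Fin n) R →ₐ[R] G i := MvPolynomial.aeval x
  have hl : (g i).comp l = f.comp π := MvPolynomial.algHom_ext fun k => by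
    simp only [AlgHom.comp_apply, l, MvPolynomial.aeval_X]
    exact hx k
  obtain ⟨j, φ, hφ, hφs⟩ := hS.kill_finset i (s.image l) (by
    intro y hy
    obtain ⟨p, hp, rfl⟩ := Finset.mem_image.mp hy
    rw [← AlgHom.comp_apply, hl, AlgHom.comp_apply,
      show π p = 0 from RingHom.mem_ker.1 (hs ▸ Ideal.subset_span hp), map_zero])
  have hker : RingHom.ker π.toRingHom ≤ RingHom.ker (φ.comp l).toRingHom := by
    rw [← hs, Ideal.span_le]
    exact fun p hp => hφs _ (Finset.mem_image_of_mem _ hp)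
  refine ⟨j, AlgHom.liftOfSurjective π hπ (φ.comp l) hker, AlgHom.ext fun c => ?_⟩
  obtain ⟨p, rfl⟩ := hπ c
  rw [AlgHom.comp_apply, AlgHom.liftOfSurjective_apply, AlgHom.comp_apply, ← AlgHom.comp_apply (g j), hφ,
    ← AlgHom.comp_apply, hl, AlgHom.comp_apply]

section Pair

variable {S D : Type u} [CommRing S] [CommRing D] [Algebra S D]
  {E M : Type u} [CommRing E] [Algebra S E] [CommRing M] [Algebra D M] [Algebra S M] [IsScalarTower S D M]

/-- The map `X ⊗_S E → X ⊗_D M` induced by `h : E → M`. -/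
noncomputable def pairHom (h : E →ₐ[S] M) (X : Type u) [CommRing X] [Algebra D X] [Algebra S X]
    [IsScalarTower S D X] : X ⊗[S] E →ₐ[X] X ⊗[D] M :=
  haveI : IsScalarTower S X (X ⊗[D] M) := TensorProduct.isScalarTower_left
  Algebra.TensorProduct.lift (Algebra.ofId X (X ⊗[D] M))
    ((((Algebra.TensorProduct.includeRight : M →ₐ[D] X ⊗[D] M).restrictScalars S).comp h)) fun _ _ => Commute.all _ _

theorem pairHom_tmul (h : E →ₐ[S] M) (X : Type u) [CommRing X] [Algebra D X] [Algebra S X]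
    [IsScalarTower S D X] (x : X) (e : E) : pairHom (D := D) h X (x ⊗ₜ e) = x ⊗ₜ[D] h e := by
  simp [pairHom, Algebra.TensorProduct.tmul_mul_tmul, Algebra.TensorProduct.algebraMap_apply]

/-- The universal pair over `D`. -/
noncomputable def baseHom (h : E →ₐ[S] M) : D ⊗[S] E →ₐ[D] M :=
  Algebra.TensorProduct.lift (Algebra.ofId D M) h fun _ _ => Commute.all _ _

theorem baseHom_tmul (h : E →ₐ[S] M) (d : D) (e : E) : baseHom (D := D) h (d ⊗ₜ e) = algebraMap D M d * h e := by
  simp [baseHom]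

set_option maxHeartbeats 1000000 in
set_option backward.isDefEq.respectTransparency false in
/-- Étaleness of the induced map over `X` is étaleness of a base change. -/
theorem etale_pairHom_iff (h : E →ₐ[S] M) (X : Type u) [CommRing X] [Algebra D X] [Algebra S X]
    [IsScalarTower S D X] :
    letI := (baseHom (D := D) h).toRingHom.toAlgebra
    (pairHom (D := D) h X).toRingHom.Etale ↔
      Algebra.Etale ((D ⊗[S] E) ⊗[D] X) (((D ⊗[S] E) ⊗[D] X) ⊗[D ⊗[S] E] M) := by
  letI := (baseHom (D := D) h).toRingHom.toAlgebra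
  haveI : IsScalarTower D (D ⊗[S] E) M := IsScalarTower.of_algebraMap_eq fun d =>
    ((baseHom (D := D) h).commutes d).symm
  let e1 :=
    (Algebra.TensorProduct.cancelBaseChange S D X X E).symm.toRingEquiv.trans
      (Algebra.TensorProduct.comm D X (D ⊗[S] E)).toRingEquiv
  let e2 :=
    ((Algebra.TensorProduct.comm (D ⊗[S] E) ((D ⊗[S] E) ⊗[D] X) M).toRingEquiv.trans
      (Algebra.TensorProduct.cancelBaseChange D (D ⊗[S] E) M M X).toRingEquiv).trans
      (Algebra.TensorProduct.comm D M X).toRingEquiv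
  have h1 : ∀ (x : X) (e : E), e1 (x ⊗ₜ e) = ((1 : D) ⊗ₜ[S] e) ⊗ₜ[D] x := fun x e => by
    simp [e1]
  have h2 : ∀ (t : D ⊗[S] E) (x : X) (m : M), e2 ((t ⊗ₜ[D] x) ⊗ₜ[D ⊗[S] E] m) = x ⊗ₜ[D] (baseHom (D := D) h t * m) :=
    fun t x m => by
    simp [e2, Algebra.smul_def, RingHom.algebraMap_toAlgebra]
  have key : (pairHom (D := D) h X).toRingHom =
      (e2.toRingHom.comp (algebraMap ((D ⊗[S] E) ⊗[D] X) (((D ⊗[S] E) ⊗[D] X) ⊗[D ⊗[S] E] M))).comp e1.toRingHom := by
    refine RingHom.ext fun t => ?_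
    induction t using TensorProduct.induction_on with
    | zero => simp
    | tmul x e =>
      show pairHom (D := D) h X (x ⊗ₜ e) = e2 (algebraMap _ _ (e1 (x ⊗ₜ e)))
      rw [pairHom_tmul, h1, Algebra.TensorProduct.algebraMap_apply, Algebra.algebraMap_self, RingHom.id_apply, h2,
        baseHom_tmul, map_one, one_mul, mul_one]
    | add a b ha hb => rw [map_add, map_add, ha, hb]
  rw [← RingHom.etale_algebraMap, key]
  refine ⟨fun hp => ?_, fun hp => ?_⟩
  · obtain ⟨hl, hr⟩ := @RingHom.Etale.respectsIso.{u}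
    have h3 := @hl ((D ⊗[S] E) ⊗[D] X) (X ⊗[D] M)
      (((D ⊗[S] E) ⊗[D] X) ⊗[D ⊗[S] E] M) inferInstance inferInstance inferInstance _ e2.symm
      (@hr ((D ⊗[S] E) ⊗[D] X) (X ⊗[S] E) (X ⊗[D] M)
        inferInstance inferInstance inferInstance _ e1.symm hp)
    convert h3 using 1
    ext t <;> simp
  · exact RingHom.Etale.respectsIso.2 _ e1 (RingHom.Etale.respectsIso.1 _ e2 hp)

/-- An étale pair stays étale after base change. -/
theorem etale_pairHom_of_base (h : E →ₐ[S] M) (hh : (baseHom (D := D) h).toRingHom.Etale) (X : Type u) [CommRing X]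
    [Algebra D X] [Algebra S X] [IsScalarTower S D X] : (pairHom (D := D) h X).toRingHom.Etale := by
  rw [etale_pairHom_iff]
  letI := (baseHom (D := D) h).toRingHom.toAlgebra
  haveI : Algebra.Etale (D ⊗[S] E) M := RingHom.etale_algebraMap.1 hh
  infer_instance

/-- Étaleness over `Λ` descends to a finitely generated subalgebra. -/
theorem exists_etale_stage (h : E →ₐ[S] M) [Algebra.FiniteType S E] [Algebra.FinitePresentation D M]
    (Λ : Type u) [CommRing Λ] [Algebra D Λ] [Algebra S Λ] [IsScalarTower S D Λ]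
    (hΛ : (pairHom (D := D) h Λ).toRingHom.Etale) :
    ∃ D' : Subalgebra D Λ, D'.FG ∧ (pairHom (D := D) h D').toRingHom.Etale := by
  letI := (baseHom (D := D) h).toRingHom.toAlgebra
  haveI : IsScalarTower D (D ⊗[S] E) M := IsScalarTower.of_algebraMap_eq fun d =>
    ((baseHom (D := D) h).commutes d).symm
  haveI : Algebra.FinitePresentation (D ⊗[S] E) M :=
    Algebra.FinitePresentation.of_restrict_scalars_finitePresentation D (D ⊗[S] E) M
  obtain ⟨i, hi⟩ := ((isAlgSys_fg D Λ).baseChange (D ⊗[S] E)).exists_etale_baseChange (C := M)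
    ((etale_pairHom_iff h Λ).1 hΛ)
  exact ⟨i.1, i.2, (etale_pairHom_iff h i.1).2 hi⟩

end Pair

end Groth.Agent.MatchLib
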